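import Groth.Agent.Lib.BlowUpExists.Exists
import Groth.Agent.Lib.BlowUpExists.Proper
import Groth.Agent.Lib.Ideal.BlowUp
import Groth.Agent.Lib.ModelFibre.StalkIdeal
import Groth.Agent.Lib.Flat55.FibreDimApps
import Groth.Agent.Lib.Flat55.DimIneqFibre
import Groth.Agent.Lib.CDivInt.Dim1
import Groth.Agent.Lib.ZMTStein.Normal
import Groth.Agent.Lib.CurveFF.Dominant
import Groth.Agent.Lib.Cyc.TorPD
import Groth.Prelude.Def_EGA4Misc
import Groth.Agent.S2348

/-!
# Basic facts for resolving one-dimensional schemes by point blow-ups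
-/

set_option autoImplicit false
set_option backward.isDefEq.respectTransparency.types false

universe u

open CategoryTheory CategoryTheory.Limits AlgebraicGeometry TopologicalSpace Opposite

namespace Groth.Agent.H81.CurveRes

open Groth.Agent.Lib Groth.Agent.Lib.Ideal.Prime

/-- A regular local ring of dimension at most one is a principal ideal ring. -/
theorem isPrincipalIdealRing_of_regular (R : Type u) [CommRing R] [IsDomain R] [IsRegularLocalRing R]
    (h : ringKrullDim R ≤ 1) : IsPrincipalIdealRing R := by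
  have hs := IsRegularLocalRing.spanFinrank_maximalIdeal (R := R)
  rw [← hs] at h
  have hle : (IsLocalRing.maximalIdeal R).spanFinrank ≤ 1 := by exact_mod_cast h
  have hp : (IsLocalRing.maximalIdeal R).IsPrincipal := by
    by_cases h0 : IsLocalRing.maximalIdeal R = ⊥
    · rw [h0]; infer_instance
    refine ((Submodule.spanFinrank_eq_one_iff _).1 (le_antisymm hle ?_)).1
    exact Nat.one_le_iff_ne_zero.2 fun e => h0 ((Submodule.spanFinrank_eq_zero_iff_eq_bot (IsNoetherian.noetherian _)).1 e)
  exact ((tfae_of_isNoetherianRing_of_isLocalRing_of_isDomain (R := R)).out 4 0).mp hp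

variable {X Y : Scheme.{u}}

theorem stalk_dim_le_one (hdim : topologicalKrullDim Y ≤ 1) (y : Y) :
    ringKrullDim (Y.presheaf.stalk y) ≤ 1 :=
  (Cyc.TorPD.ringKrullDim_stalk_le y).trans hdim

theorem isBirational_of_isIso_restrict [IsIntegral X] [IsIntegral Y] (g : X ⟶ Y) (V : Y.Opens)
    (hne : (V : Set Y).Nonempty) (hV : IsIso (g ∣_ V)) : RadPt.IsBirational g := by
  obtain ⟨hgen, hbij⟩ := ZMTStein.generic_of_isIso_restrict g V hne hV
  have hX : genericPoints X = {genericPoint X} := genericPoints_eq_singleton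
  have hY : genericPoints Y = {genericPoint Y} := genericPoints_eq_singleton
  have hgV : genericPoint Y ∈ V := ((genericPoint_spec Y).mem_open_set_iff V.2).2 (by simpa using hne)
  have huniq : ∀ x : X, g x = genericPoint Y → x = genericPoint X := by
    intro x hx
    have h1 : x ∈ g ⁻¹ᵁ V := show g x ∈ V from hx ▸ hgV
    have h2 : genericPoint X ∈ g ⁻¹ᵁ V := show g (genericPoint X) ∈ V from hgen ▸ hgV
    haveI := hV
    have hinj := (ConcreteCategory.bijective_of_isIso (g ∣_ V).base).1
    refine congrArg Subtype.val (@hinj (⟨x, h1⟩ : (g ⁻¹ᵁ V : X.Opens)) ⟨genericPoint X, h2⟩ (Subtype.ext ?_))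
    rw [morphismRestrict_base]
    exact hx.trans hgen.symm
  refine ⟨?_, fun y hy => ?_⟩
  · rw [hX, hY]; exact Set.bijOn_singleton.2 hgen
  · rw [hY, Set.mem_singleton_iff] at hy
    subst hy
    refine ⟨fun x x' h h' => (huniq x h).trans (huniq x' h').symm, fun x hx => ?_⟩
    obtain rfl := huniq x hx
    refine ⟨(g.residueFieldMap _).hom.injective, fun b => ?_⟩
    obtain ⟨b, rfl⟩ := Ideal.Quotient.mk_surjective b
    obtain ⟨a, rfl⟩ := hbij.2 b
    exact ⟨Ideal.Quotient.mk _ a, rfl⟩

/-- An integral scheme, proper and birational over a one-dimensional Noetherian integral scheme, has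
dimension at most one. -/
theorem dim_le_one [IsIntegral X] [IsIntegral Y] [IsNoetherian Y] (hdim : topologicalKrullDim Y ≤ 1)
    (g : X ⟶ Y) [LocallyOfFiniteType g] (V : Y.Opens)
    (hne : (V : Set Y).Nonempty) (hV : IsIso (g ∣_ V)) : topologicalKrullDim X ≤ 1 :=
  Flat55.DimIneqFibre.topologicalKrullDim_le_of_forall_stalk _ fun x =>
    (Flat55.FibreDimApps.ringKrullDim_stalk_le_of_isBirational g
      (isBirational_of_isIso_restrict g V hne hV) x).trans (stalk_dim_le_one hdim _)

theorem finite_of_isClosed_ne_univ [IsIntegral X] [IsNoetherian X] (hdim : topologicalKrullDim X ≤ 1)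
    {Z : Set X} (hZ : IsClosed Z) (hg : genericPoint X ∉ Z) : Z.Finite := by
  obtain ⟨S, hSf, hSc, hSi, hSZ⟩ :=
    NoetherianSpace.exists_finite_set_isClosed_irreducible hZ
  rw [hSZ]
  refine hSf.sUnion fun t ht => ?_
  obtain ⟨x, hx⟩ := QuasiSober.sober (hSi t ht) (hSc t ht)
  have hxZ : x ∈ Z := hSZ ▸ ⟨t, ht, hx.mem⟩
  rw [← hx.def, (CDivInt.isClosed_singleton_of_ne_genericPoint hdim
    (fun e => hg (e ▸ hxZ))).closure_eq]
  exact Set.finite_singleton x

/-- A proper birational morphism from an integral scheme to a one-dimensional one is finite. -/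
theorem isFinite_of_birational [IsIntegral X] [IsIntegral Y] [IsNoetherian Y] (hdim : topologicalKrullDim Y ≤ 1)
    (g : X ⟶ Y) [IsProper g] (V : Y.Opens) (hne : (V : Set Y).Nonempty) (hV : IsIso (g ∣_ V)) :
    IsFinite g := by
  haveI : IsNoetherian X :=
    { toIsLocallyNoetherian := LocallyOfFiniteType.isLocallyNoetherian g
      toCompactSpace := QuasiCompact.compactSpace_of_compactSpace g }
  have hdX := dim_le_one hdim g V hne hV
  obtain ⟨hgen, -⟩ := ZMTStein.generic_of_isIso_restrict g V hne hV
  haveI : LocallyQuasiFinite g := LocallyQuasiFinite.of_finite_preimage_singleton g fun y => by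
    by_cases hy : y = genericPoint Y
    · subst hy
      refine Set.Finite.subset (Set.finite_singleton (genericPoint X)) fun x hx => ?_
      exact ((isBirational_of_isIso_restrict g V hne hV).2 _ (genericPoints_eq_singleton (α := Y) ▸ rfl)).1
        x _ hx hgen
    · exact finite_of_isClosed_ne_univ hdX
        ((CDivInt.isClosed_singleton_of_ne_genericPoint hdim hy).preimage g.continuous)
        fun h => hy ((show g (genericPoint X) = y from h).symm.trans hgen)
  exact IsFinite.of_isProper_of_locallyQuasiFinite g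

/-- A nonzero ideal sheaf on a regular integral scheme of dimension at most one is effective Cartier. -/
theorem isEffCartier_of_regular [IsIntegral X] [IsLocallyNoetherian X] (hdim : topologicalKrullDim X ≤ 1)
    (hreg : ∀ x : X, IsRegularLocalRing (X.presheaf.stalk x)) (I : X.IdealSheafData)
    (hI : genericPoint X ∉ I.support) : BlowUp.IsEffCartierIdeal I := by
  refine ModelFibre.StalkIdeal.isEffCartierIdeal (fun x => inferInstance) fun x => ?_
  haveI := hreg x
  haveI := isPrincipalIdealRing_of_regular (X.presheaf.stalk x) (stalk_dim_le_one hdim x)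
  obtain ⟨p, hp⟩ := IsPrincipalIdealRing.principal (stalkIdeal I x)
  refine ⟨p, fun h0 => ?_, hp⟩
  have hs := (genericPoint_spec X).specializes (Set.mem_univ x)
  have h1 := ModelFibre.StalkIdeal.map_stalkSpecializes I hs
  rw [(ModelFibre.StalkIdeal.stalkIdeal_eq_top_iff I _).2 hI, hp, h0] at h1
  simp at h1

/-- The stalk of the ideal sheaf of a closed point at that point is the maximal ideal. -/
theorem stalkIdeal_vanishingIdeal_point (y : Y) (hy : IsClosed ({y} : Set Y)) :
    stalkIdeal (Scheme.IdealSheafData.vanishingIdeal ⟨{y}, hy⟩) y = IsLocalRing.maximalIdeal _ := by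
  obtain ⟨U, hU, hyU, -⟩ :=
    exists_isAffineOpen_mem_and_subset (show y ∈ (⊤ : Y.Opens) from trivial)
  rw [stalkIdeal_eq _ ⟨U, hU⟩ hyU, Scheme.IdealSheafData.vanishingIdeal_ideal]
  have hpre : hU.fromSpec ⁻¹' ({y} : Set Y) = {hU.primeIdealOf ⟨y, hyU⟩} := by
    ext q
    simp only [Set.mem_preimage, Set.mem_singleton_iff]
    exact ⟨fun h => hU.fromSpec.isOpenEmbedding.injective (by rw [h, hU.fromSpec_primeIdealOf]),
      fun h => by rw [h, hU.fromSpec_primeIdealOf]⟩
  change Ideal.map _ (PrimeSpectrum.vanishingIdeal (hU.fromSpec ⁻¹' ({y} : Set Y))) = _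
  erw [hpre]
  erw [PrimeSpectrum.vanishingIdeal_singleton]
  letI := Y.presheaf.algebra_section_stalk (U := U) ⟨y, hyU⟩
  haveI : IsLocalization.AtPrime (Y.presheaf.stalk y) (hU.primeIdealOf ⟨y, hyU⟩).asIdeal :=
    hU.isLocalization_stalk ⟨y, hyU⟩
  exact IsLocalization.AtPrime.map_eq_maximalIdeal _ (Y.presheaf.stalk y)

/-- If the ideal of a closed point is effective Cartier, the local ring there is regular. -/
theorem isRegular_of_effCartier_point [IsIntegral Y] [IsLocallyNoetherian Y] (y : Y) (hy : IsClosed ({y} : Set Y))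
    (h : BlowUp.IsEffCartierIdeal (Scheme.IdealSheafData.vanishingIdeal ⟨{y}, hy⟩)) :
    IsRegularLocalRing (Y.presheaf.stalk y) := by
  obtain ⟨U, hyU, f, -, hf⟩ := h y
  have hm := stalkIdeal_vanishingIdeal_point y hy
  rw [stalkIdeal_eq _ U hyU, hf, Ideal.map_span, Set.image_singleton] at hm
  have hp : (IsLocalRing.maximalIdeal (Y.presheaf.stalk y)).IsPrincipal := ⟨_, hm.symm⟩
  haveI : IsNoetherianRing (Y.presheaf.stalk y) := inferInstance
  haveI : IsPrincipalIdealRing (Y.presheaf.stalk y) :=
    ((tfae_of_isNoetherianRing_of_isLocalRing_of_isDomain (R := Y.presheaf.stalk y)).out 4 0).mp hp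
  infer_instance

/-- A morphism that is a blow-up and an isomorphism makes its centre effective Cartier. -/
theorem effCartier_of_isIso_blowUp {b : X ⟶ Y} {I : Y.IdealSheafData} (hb : BlowUp.IsBlowUp b I)
    [IsIso b] : BlowUp.IsEffCartierIdeal I := by
  have h := Ideal.EffCartier.isEffCartier_comap_of_flat (inv b) hb.1
  rwa [← Scheme.IdealSheafData.comap_comp, IsIso.inv_hom_id, Scheme.IdealSheafData.comap_id] at h

theorem support_point (y : Y) (hy : IsClosed ({y} : Set Y)) :
    ((Scheme.IdealSheafData.vanishingIdeal ⟨{y}, hy⟩).support : Set Y) = {y} := by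
  rw [Scheme.IdealSheafData.coe_support_vanishingIdeal]; rfl

theorem isIso_restrict_le (f : X ⟶ Y) {U V : Y.Opens} (h : IsIso (f ∣_ U)) (hVU : V ≤ U) :
    IsIso (f ∣_ V) := by
  haveI := h
  have h1 : IsIso ((f ∣_ U) ∣_ (U.ι ⁻¹ᵁ V)) := inferInstance
  exact (MorphismProperty.arrow_mk_iso_iff (MorphismProperty.isomorphisms Scheme)
    ((morphismRestrictRestrict f U (U.ι ⁻¹ᵁ V)) ≪≫ morphismRestrictEq f (by
      rw [Scheme.Hom.image_preimage_eq_opensRange_inf, Scheme.Opens.opensRange_ι]
      exact inf_eq_right.mpr hVU))).mp h1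

end Groth.Agent.H81.CurveRes
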