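import Groth.Agent.H81.CurveRes.Main
import Groth.Agent.Lib.BlowStrict85.Main
import Groth.Agent.Lib.Flat55.CurveResolution

/-!
# Embedded resolution of a curve by point blow-ups
-/

set_option autoImplicit false
set_option backward.isDefEq.respectTransparency.types false

universe u

open CategoryTheory CategoryTheory.Limits AlgebraicGeometry TopologicalSpace Opposite

namespace Groth.Agent.H81.CurveRes

open Groth.Agent.Lib Groth.Agent.Lib.Ideal.Prime

variable {X Y : Scheme.{u}}

theorem stalkIdeal_comap (f : X ⟶ Y) (I : Y.IdealSheafData) (x : X) :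
    stalkIdeal (I.comap f) x = (stalkIdeal I (f x)).map (f.stalkMap x).hom := by
  obtain ⟨U, V, hfx, hxV, -, -, e⟩ :=
    Ideal.Comap.exists_affine_le_preimage f x (W := ⊤) trivial (U := ⊤) trivial
  rw [stalkIdeal_eq _ V hxV, stalkIdeal_eq _ U hfx, Ideal.Comap.ideal_comap f I U V e,
    Ideal.map_map, Ideal.map_map, ← CommRingCat.hom_comp, ← CommRingCat.hom_comp]
  congr 2
  rw [Scheme.Hom.germ_stalkMap, Scheme.Hom.appLE, Category.assoc, TopCat.Presheaf.germ_res]

theorem comap_point (j : X ⟶ Y) [IsClosedImmersion j] (z : X) (hz : IsClosed ({z} : Set X))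
    (hz' : IsClosed ({j z} : Set Y)) :
    (Scheme.IdealSheafData.vanishingIdeal ⟨{j z}, hz'⟩).comap j =
      Scheme.IdealSheafData.vanishingIdeal ⟨{z}, hz⟩ := by
  refine ModelFibre.StalkIdeal.ext_of_stalkIdeal fun x => ?_
  rw [stalkIdeal_comap]
  by_cases hx : x = z
  · subst hx
    rw [stalkIdeal_vanishingIdeal_point, stalkIdeal_vanishingIdeal_point]
    refine le_antisymm (Ideal.map_le_iff_le_comap.2 fun a ha hu => ha ?_) fun b hb => ?_
    · exact (isUnit_map_iff (j.stalkMap x).hom a).1 hu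
    · obtain ⟨a, rfl⟩ := j.stalkMap_surjective x b
      exact Ideal.mem_map_of_mem _ fun hu => hb (hu.map _)
  · have h1 : x ∉ (Scheme.IdealSheafData.vanishingIdeal ⟨{z}, hz⟩).support := fun h =>
      hx (show x ∈ ({z} : Set X) from support_point z hz ▸ h)
    have h2 : j x ∉ (Scheme.IdealSheafData.vanishingIdeal ⟨{j z}, hz'⟩).support := fun h =>
      hx (j.isEmbedding.injective (show j x ∈ ({j z} : Set Y) from support_point (j z) hz' ▸ h))
    rw [(ModelFibre.StalkIdeal.stalkIdeal_eq_top_iff _ _).2 h1,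
      (ModelFibre.StalkIdeal.stalkIdeal_eq_top_iff _ _).2 h2, Ideal.map_top]

/-- A sequence of point blow-ups of a closed subscheme extends to the ambient scheme. -/
theorem exists_ambient {Y' : Scheme.{u}} (g : Y' ⟶ Y) (hg : Resolve.IsPtBlowupSeq g) :
    ∀ {W : Scheme.{u}} (ι : Y ⟶ W) [IsClosedImmersion ι],
      ∃ (W' : Scheme.{u}) (G : W' ⟶ W) (j : Y' ⟶ W'),
        Resolve.IsPtBlowupSeq G ∧ IsClosedImmersion j ∧ j ≫ G = g ≫ ι := by
  induction hg with
  | @iso A B e =>
    intro W ι _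
    exact ⟨W, (Iso.refl W).hom, e.hom ≫ ι, .iso _, inferInstance, Category.comp_id _⟩
  | @step A Z B b r z hz hb hr ih =>
    intro W ι _
    obtain ⟨W₁, G, j, hG, hj, e⟩ := ih ι
    haveI := hj
    have hz' : IsClosed ({j z} : Set W₁) := by
      simpa [Set.image_singleton] using j.isClosedEmbedding.isClosedMap _ hz
    obtain ⟨W₂, c, hc⟩ := BlowUpExists.exists_isBlowUp W₁ (Scheme.IdealSheafData.vanishingIdeal ⟨{j z}, hz'⟩)
    have hb' : BlowUp.IsBlowUp b ((Scheme.IdealSheafData.vanishingIdeal ⟨{j z}, hz'⟩).comap j) := by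
      rw [comap_point j z hz hz']; exact hb
    obtain ⟨j', hj', -⟩ := hc.2 A (b ≫ j) (by
      rw [Scheme.IdealSheafData.comap_comp]; exact hb'.1)
    exact ⟨W₂, c ≫ G, j', .step c G (j z) hz' hc hG,
      BlowStrict85.isClosedImmersion_lift _ j c hc b hb' j' hj',
      by rw [← Category.assoc, hj', Category.assoc, e, Category.assoc]⟩

theorem exists_embedded_resolution (X : Scheme.{u}) (I : X.IdealSheafData) [IsIntegral I.subscheme]
    [IsNoetherian I.subscheme] (hdim : topologicalKrullDim ↥I.subscheme = 1)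
    [QuasiCompact (I.subscheme.fromSpecStalk (genericPoint ↥I.subscheme))]
    [QuasiSeparated (I.subscheme.fromSpecStalk (genericPoint ↥I.subscheme))]
    (hfin : IsFinite (Curv2.normalizationι I.subscheme)) :
    ∃ (X' : Scheme.{u}) (g : X' ⟶ X), Resolve.IsPtBlowupSeq g ∧
      ∃ (I' : X'.IdealSheafData) (g' : I'.subscheme ⟶ I.subscheme), IsIntegral I'.subscheme ∧
        g' ≫ I.subschemeι = I'.subschemeι ≫ g ∧
        (∃ V : I.subscheme.Opens, (V : Set ↥I.subscheme).Nonempty ∧ IsIso (g' ∣_ V)) ∧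
        ∀ y : ↥I'.subscheme, IsRegularLocalRing (I'.subscheme.presheaf.stalk y) := by
  obtain ⟨hp, hN, ⟨V, hne, hV⟩, hreg⟩ :=
    Flat55.CurveResolution.resolution_of_isFinite hdim.le hfin
  haveI := hp; haveI := hN
  obtain ⟨Y', g, hseq, hreg'⟩ := exists_seq hdim (Curv2.normalizationι I.subscheme) V hne hV hreg
  obtain ⟨hY', -, V', hne', hV'⟩ := seq_props g hseq hdim
  haveI := hY'
  obtain ⟨X', G, j, hG, hj, e⟩ := exists_ambient g hseq I.subschemeι
  haveI := hj
  haveI : IsIso j.toImage := inferInstanceAs (IsIso j.toImage)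
  haveI : Nonempty j.ker.subscheme := ⟨j.toImage.base (genericPoint Y')⟩
  refine ⟨X', G, hG, j.ker, inv j.toImage ≫ g, isIntegral_of_isOpenImmersion (inv j.toImage), ?_,
    ⟨V', hne', ?_⟩, fun y => ?_⟩
  · rw [Category.assoc, ← e, ← Category.assoc]
    congr 1
    rw [IsIso.inv_comp_eq]; exact j.toImage_imageι.symm
  · haveI := hV'
    rw [morphismRestrict_comp]
    exact IsIso.comp_isIso' (isIso_restrict_of_isIso _ _) hV'
  · haveI := hreg' ((inv j.toImage).base y)
    exact IsRegularLocalRing.of_ringEquiv (asIso ((inv j.toImage).stalkMap y)).commRingCatIsoToRingEquiv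

end Groth.Agent.H81.CurveRes
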