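import Groth.Agent.H81.CurveRes.Basic
import Groth.Prelude.Def_ResolveSeq
import Mathlib.Data.DFinsupp.WellFounded

/-!
# Resolution of a one-dimensional scheme by point blow-ups
-/

set_option autoImplicit false
set_option backward.isDefEq.respectTransparency.types false

universe u

open CategoryTheory CategoryTheory.Limits AlgebraicGeometry TopologicalSpace Opposite

namespace Groth.Agent.H81.CurveRes

open Groth.Agent.Lib

variable {X Y Z : Scheme.{u}}

theorem app_injective [IsIntegral X] [IsIntegral Y] (f : X ⟶ Y) (hη : f (genericPoint X) = genericPoint Y)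
    (U : Y.Opens) : Function.Injective (f.app U).hom := by
  refine (injective_iff_map_eq_zero _).2 fun r hr => ?_
  by_contra h0
  have hne : Y.basicOpen r ≠ ⊥ := fun h => h0 ((basicOpen_eq_bot_iff r).1 h)
  have hmem : f (genericPoint X) ∈ Y.basicOpen r := by
    rw [hη]
    exact ((genericPoint_spec Y).mem_open_set_iff (Y.basicOpen r).2).2
      (by simpa using Opens.ne_bot_iff_nonempty _ |>.1 hne)
  have h2 : genericPoint X ∈ f ⁻¹ᵁ Y.basicOpen r := hmem
  rw [Scheme.preimage_basicOpen, show f.app U r = 0 from hr, Scheme.basicOpen_zero] at h2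
  exact h2.elim

theorem appLE_injective [IsIntegral X] [IsIntegral Y] (f : X ⟶ Y) (hη : f (genericPoint X) = genericPoint Y)
    {U : Y.Opens} {V : X.Opens} (hV : V = f ⁻¹ᵁ U) (e : V ≤ f ⁻¹ᵁ U) :
    Function.Injective (f.appLE U V e).hom := by
  subst hV
  rw [← Scheme.Hom.app_eq_appLE]
  exact app_injective f hη U

theorem genericPoint_not_isClosed [IsIntegral Y] (hdim : topologicalKrullDim Y = 1) :
    ¬ IsClosed ({genericPoint Y} : Set Y) := by
  intro h
  haveI : Subsingleton Y := ⟨fun a b => by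
    have hu : (Set.univ : Set Y) = {genericPoint Y} := by
      rw [← (genericPoint_spec Y).def]; exact h.closure_eq
    have ha : a ∈ ({genericPoint Y} : Set Y) := hu ▸ Set.mem_univ a
    have hb : b ∈ ({genericPoint Y} : Set Y) := hu ▸ Set.mem_univ b
    exact ha.trans hb.symm⟩
  have h0 := topologicalKrullDim_zero_of_discreteTopology Y
  rw [hdim] at h0
  exact absurd h0 (by norm_num)

/-- If the sections of `A` over `b⁻¹W` all come, inside those of `X`, from sections of `B` over `W`, then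
`b` is an isomorphism over the affine open `W`. -/
theorem isIso_restrict_of_range {A B : Scheme.{u}} [IsIntegral X] [IsIntegral A] [IsIntegral B] (b : A ⟶ B)
    (f : X ⟶ A) (hf : f (genericPoint X) = genericPoint A) (hb : b (genericPoint A) = genericPoint B)
    {W : B.Opens} (hW : IsAffineOpen W) (hW' : IsAffineOpen (b ⁻¹ᵁ W)) {U : X.Opens}
    (hU : U = f ⁻¹ᵁ b ⁻¹ᵁ W)
    (hr : ∀ a, ∃ c, ((f ≫ b).appLE W U hU.le).hom c = (f.appLE (b ⁻¹ᵁ W) U hU.le).hom a) :
    IsIso (b ∣_ W) := by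
  have hbij : IsIso (b.app W) := by
    rw [ConcreteCategory.isIso_iff_bijective]
    refine ⟨app_injective b hb W, fun a => ?_⟩
    obtain ⟨c, hc⟩ := hr a
    refine ⟨c, appLE_injective f hf hU hU.le ?_⟩
    rw [← hc, ← CommRingCat.comp_apply, Scheme.Hom.app_eq_appLE, Scheme.Hom.appLE_comp_appLE]
  haveI : IsAffine (W : Scheme.{u}) := hW
  refine (HasAffineProperty.iff_of_isAffine (P := MorphismProperty.isomorphisms Scheme.{u})).2 ⟨hW', ?_⟩
  rw [morphismRestrict_appTop]
  have : ∀ W', W' = W → IsIso (b.app W') := fun W' h => h ▸ hbij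
  exact IsIso.comp_isIso' (this _ W.ι_image_top) (Functor.map_isIso _ _)

theorem isIso_restrict_of_isIso (f : X ⟶ Y) [IsIso f] (U : Y.Opens) : IsIso (f ∣_ U) :=
  inferInstance

/-- Structure of a sequence of point blow-ups of a one-dimensional integral scheme. -/
theorem seq_props {Y' : Scheme.{u}} (g : Y' ⟶ Y) (hg : Resolve.IsPtBlowupSeq g) :
    ∀ [IsIntegral Y] [IsNoetherian Y], topologicalKrullDim Y = 1 →
      IsIntegral Y' ∧ IsProper g ∧ ∃ V : Y.Opens, (V : Set Y).Nonempty ∧ IsIso (g ∣_ V) := by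
  induction hg with
  | @iso A B e =>
    intro _ _ _
    haveI : Nonempty A := ⟨e.inv.base (genericPoint B)⟩
    exact ⟨isIntegral_of_isOpenImmersion e.hom, inferInstance, ⊤,
      by simpa using (inferInstance : Nonempty B), isIso_restrict_of_isIso _ _⟩
  | @step A Z B b r z hz hb hr ih =>
    intro _ _ hdim
    obtain ⟨hZ, hrp, V, hne, hV⟩ := ih hdim
    haveI := hZ; haveI := hrp
    haveI : IsLocallyNoetherian Z := LocallyOfFiniteType.isLocallyNoetherian r
    obtain ⟨hgen, -⟩ := ZMTStein.generic_of_isIso_restrict r V hne hV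
    have hzg : z ≠ genericPoint Z := by
      rintro rfl
      refine genericPoint_not_isClosed hdim ?_
      have := r.isClosedMap _ hz
      rwa [Set.image_singleton, hgen] at this
    set I := Scheme.IdealSheafData.vanishingIdeal (⟨{z}, hz⟩ : Closeds Z)
    have hI : I ≠ ⊥ := fun h => by
      have h1 := support_point z hz
      rw [show Scheme.IdealSheafData.vanishingIdeal (⟨{z}, hz⟩ : Closeds Z) = ⊥ from h,
        Scheme.IdealSheafData.support_bot] at h1
      have h2 : genericPoint Z ∈ ({z} : Set Z) := h1 ▸ Set.mem_univ _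
      exact hzg (Set.mem_singleton_iff.1 h2).symm
    obtain ⟨hA, -⟩ := S2348.result I hI b hb
    haveI := hA
    haveI : IsProper b := BlowUpExists.isProper_of_isBlowUp hb fun U => by
      haveI := IsLocallyNoetherian.component_noetherian U
      exact IsNoetherian.noetherian _
    have hrz : IsClosed ({r z} : Set B) := by
      simpa [Set.image_singleton] using r.isClosedMap _ hz
    let V' : B.Opens := V ⊓ ⟨({r z} : Set B)ᶜ, hrz.isOpen_compl⟩
    have hgV : genericPoint B ∈ V := ((genericPoint_spec B).mem_open_set_iff V.2).2 (by simpa using hne)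
    have hbir := (isBirational_of_isIso_restrict r V hne hV).2 (genericPoint B)
      (by rw [genericPoints_eq_singleton]; rfl)
    refine ⟨hA, inferInstance, V', ⟨genericPoint B, hgV, fun h => hzg ?_⟩, ?_⟩
    · exact hbir.1 z _ (Set.mem_singleton_iff.1 h).symm hgen
    · have h1 : IsIso (b ∣_ (r ⁻¹ᵁ V')) :=
        isIso_restrict_le b (Ideal.BlowUp.isIso_off_center hb) fun w hw hws => hw.2 (by
          have : w ∈ ({z} : Set Z) := support_point z hz ▸ hws
          rw [Set.mem_singleton_iff.1 this]; rfl)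
      have h2 : IsIso (r ∣_ V') := isIso_restrict_le r hV inf_le_left
      rw [morphismRestrict_comp]
      exact IsIso.comp_isIso' h1 h2

/-- A scheme finite birational over a one-dimensional one with regular local rings is reached by point
blow-ups. -/
theorem exists_seq [IsIntegral Y] [IsNoetherian Y] (hdim : topologicalKrullDim Y = 1) [IsIntegral X]
    (g : X ⟶ Y) [IsProper g] (V : Y.Opens) (hne : (V : Set Y).Nonempty) (hV : IsIso (g ∣_ V))
    (hreg : ∀ x : X, IsRegularLocalRing (X.presheaf.stalk x)) :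
    ∃ (Y' : Scheme.{u}) (g' : Y' ⟶ Y), Resolve.IsPtBlowupSeq g' ∧
      ∀ y : Y', IsRegularLocalRing (Y'.presheaf.stalk y) := by
  haveI : IsFinite g := isFinite_of_birational hdim.le g V hne hV
  haveI : IsLocallyNoetherian X := LocallyOfFiniteType.isLocallyNoetherian g
  have hdX := dim_le_one hdim.le g V hne hV
  obtain ⟨hgen, -⟩ := ZMTStein.generic_of_isIso_restrict g V hne hV
  classical
  obtain ⟨s, hs⟩ := isCompact_univ.elim_finite_subcover (fun U : Y.affineOpens => (U.1 : Set Y))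
    (fun U => U.1.2) (fun y _ => by
      obtain ⟨U, hU, hyU, -⟩ := exists_isAffineOpen_mem_and_subset (show y ∈ (⊤ : Y.Opens) from trivial)
      exact Set.mem_iUnion.2 ⟨⟨U, hU⟩, hyU⟩)
  letI alg : ∀ i : s, Algebra Γ(Y, i.1.1) Γ(X, g ⁻¹ᵁ i.1.1) := fun i => (g.app i.1.1).hom.toAlgebra
  haveI : ∀ i : s, Module.Finite Γ(Y, i.1.1) Γ(X, g ⁻¹ᵁ i.1.1) := fun i => g.finite_app _ i.1.2
  haveI : ∀ i : s, IsNoetherianRing Γ(Y, i.1.1) := fun i => IsLocallyNoetherian.component_noetherian i.1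
  haveI : ∀ i : s, WellFoundedGT (Submodule Γ(Y, i.1.1) Γ(X, g ⁻¹ᵁ i.1.1)) := fun i => inferInstance
  haveI : WellFoundedGT (∀ i : s, Submodule Γ(Y, i.1.1) Γ(X, g ⁻¹ᵁ i.1.1)) :=
    ⟨Pi.wellFoundedLT (α := fun i : s => (Submodule Γ(Y, i.1.1) Γ(X, g ⁻¹ᵁ i.1.1))ᵒᵈ) |>.wf⟩
  let img : ∀ {Y' : Scheme.{u}} (g' : Y' ⟶ Y) (h : X ⟶ Y') (_ : h ≫ g' = g) (i : s),
      Submodule Γ(Y, i.1.1) Γ(X, g ⁻¹ᵁ i.1.1) := fun {Y'} g' h e i =>
    { carrier := Set.range (h.appLE (g' ⁻¹ᵁ i.1.1) (g ⁻¹ᵁ i.1.1) (by subst e; exact le_rfl)).hom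
      add_mem' := by
        rintro _ _ ⟨a, rfl⟩ ⟨b, rfl⟩
        exact ⟨a + b, map_add _ a b⟩
      zero_mem' := ⟨0, map_zero _⟩
      smul_mem' := by
        rintro c _ ⟨a, rfl⟩
        refine ⟨(g'.app i.1.1).hom c * a, ?_⟩
        rw [map_mul]
        subst e
        refine congrArg (· * _) ?_
        change ((g'.app i.1.1) ≫ h.appLE _ _ _).hom c = ((h ≫ g').app i.1.1).hom c
        congr 2
        rw [Scheme.Hom.app_eq_appLE, Scheme.Hom.app_eq_appLE, Scheme.Hom.appLE_comp_appLE] }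
  let S : Set (∀ i : s, Submodule Γ(Y, i.1.1) Γ(X, g ⁻¹ᵁ i.1.1)) :=
    {N | ∃ (Y' : Scheme.{u}) (g' : Y' ⟶ Y) (h : X ⟶ Y') (e : h ≫ g' = g),
      Resolve.IsPtBlowupSeq g' ∧ N = img g' h e}
  obtain ⟨N, ⟨Y', g', h, e, hseq, rfl⟩, hmax⟩ :=
    (wellFounded_gt (α := ∀ i : s, Submodule Γ(Y, i.1.1) Γ(X, g ⁻¹ᵁ i.1.1))).has_min S
      ⟨_, Y, (Iso.refl Y).hom, g, Category.comp_id g, .iso _, rfl⟩
  refine ⟨Y', g', hseq, fun y => ?_⟩
  obtain ⟨hY', hgp', V', hne', hV'⟩ := seq_props g' hseq hdim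
  haveI := hY'; haveI := hgp'
  haveI : IsFinite g' := isFinite_of_birational hdim.le g' V' hne' hV'
  haveI : IsLocallyNoetherian Y' := LocallyOfFiniteType.isLocallyNoetherian g'
  have hdY' := dim_le_one hdim.le g' V' hne' hV'
  obtain ⟨hgen', -⟩ := ZMTStein.generic_of_isIso_restrict g' V' hne' hV'
  have huniq := ((isBirational_of_isIso_restrict g' V' hne' hV').2 (genericPoint Y)
      (by rw [genericPoints_eq_singleton]; rfl)).1
  have hhgen : h (genericPoint X) = genericPoint Y' :=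
    huniq _ _ (by rw [← Scheme.Hom.comp_apply, e, hgen]) hgen'
  by_cases hy : y = genericPoint Y'
  · subst hy
    haveI : IsPrincipalIdealRing (Y'.presheaf.stalk (genericPoint Y')) :=
      inferInstanceAs (IsPrincipalIdealRing Y'.functionField)
    infer_instance
  have hyc := CDivInt.isClosed_singleton_of_ne_genericPoint hdY' hy
  set I := Scheme.IdealSheafData.vanishingIdeal (⟨{y}, hyc⟩ : Closeds Y')
  obtain ⟨Y'', b, hb⟩ := BlowUpExists.exists_isBlowUp Y' I
  have hseq' : Resolve.IsPtBlowupSeq (b ≫ g') := .step b g' y hyc hb hseq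
  have hcart : BlowUp.IsEffCartierIdeal (I.comap h) :=
    isEffCartier_of_regular hdX hreg _ fun hm => by
      rw [Scheme.IdealSheafData.support_comap] at hm
      have : h (genericPoint X) ∈ ({y} : Set Y') := support_point y hyc ▸ hm
      exact hy ((Set.mem_singleton_iff.1 this).symm.trans hhgen)
  obtain ⟨h'', hh'', -⟩ := hb.2 X h hcart
  have e'' : h'' ≫ b ≫ g' = g := by rw [← Category.assoc, hh'', e]
  obtain ⟨hY'', hgp'', V'', hne'', hV''⟩ := seq_props (b ≫ g') hseq' hdim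
  haveI := hY''; haveI := hgp''
  haveI : IsFinite (b ≫ g') := isFinite_of_birational hdim.le _ V'' hne'' hV''
  obtain ⟨hgen'', -⟩ := ZMTStein.generic_of_isIso_restrict (b ≫ g') V'' hne'' hV''
  have hh''gen : h'' (genericPoint X) = genericPoint Y'' :=
    ((isBirational_of_isIso_restrict (b ≫ g') V'' hne'' hV'').2 (genericPoint Y)
      (by rw [genericPoints_eq_singleton]; rfl)).1 _ _
      (by rw [← Scheme.Hom.comp_apply, e'', hgen]) hgen''
  have hbgen : b (genericPoint Y'') = genericPoint Y' :=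
    huniq _ _ (by rw [← Scheme.Hom.comp_apply, hgen'']) hgen'
  subst hh''
  have hle : img g' (h'' ≫ b) e ≤ img (b ≫ g') h'' e'' := by
    rintro i _ ⟨a, rfl⟩
    refine ⟨(b.app (g' ⁻¹ᵁ i.1.1)).hom a, ?_⟩
    change ((b.app (g' ⁻¹ᵁ i.1.1)) ≫ h''.appLE _ _ _).hom a = _
    rw [Scheme.Hom.app_eq_appLE]
    exact congrArg (fun φ => CommRingCat.Hom.hom φ a) (Scheme.Hom.appLE_comp_appLE _ _ _ _ _ _ _)
  have heq : img g' (h'' ≫ b) e = img (b ≫ g') h'' e'' :=
    hle.eq_of_not_lt fun hlt => hmax _ ⟨Y'', b ≫ g', h'', e'', hseq', rfl⟩ hlt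
  have hcover : (⨆ i : s, g' ⁻¹ᵁ i.1.1) = (⊤ : Y'.Opens) := top_le_iff.1 fun w _ => by
    obtain ⟨U, hU, hwU⟩ := Set.mem_iUnion₂.1 (hs (Set.mem_univ (g' w)))
    exact Opens.mem_iSup.2 ⟨⟨U, hU⟩, hwU⟩
  have hpre : ∀ i : s, g ⁻¹ᵁ i.1.1 = h'' ⁻¹ᵁ b ⁻¹ᵁ g' ⁻¹ᵁ i.1.1 := fun i => by subst e; rfl
  have hbiso : MorphismProperty.isomorphisms Scheme.{u} b := by
    refine (IsZariskiLocalAtTarget.iff_of_iSup_eq_top (P := MorphismProperty.isomorphisms Scheme.{u})
      (fun i : s => g' ⁻¹ᵁ i.1.1) hcover).2 fun i => ?_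
    refine isIso_restrict_of_range b h'' hh''gen hbgen (i.1.2.preimage g') (i.1.2.preimage (b ≫ g'))
      (hpre i) fun a => ?_
    have hmem : (h''.appLE (b ⁻¹ᵁ g' ⁻¹ᵁ i.1.1) (g ⁻¹ᵁ i.1.1) (hpre i).le).hom a ∈
        img (b ≫ g') h'' e'' i := ⟨a, rfl⟩
    rw [← heq] at hmem
    exact hmem
  haveI : IsIso b := hbiso
  exact isRegular_of_effCartier_point y hyc (effCartier_of_isIso_blowUp hb)

end Groth.Agent.H81.CurveRes
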