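import Groth.Agent.H81.CurveRes.Separate
import Mathlib.RingTheory.Length
import Mathlib.RingTheory.OrderOfVanishing.Basic

/-!
# Blowing up a point lowers intersection multiplicities with a curve regular at that point
-/

set_option autoImplicit false
set_option backward.isDefEq.respectTransparency.types false

universe u

open CategoryTheory CategoryTheory.Limits AlgebraicGeometry TopologicalSpace Opposite

namespace Groth.Agent.H81.CurveRes

open Groth.Agent.Lib Groth.Agent.Lib.Ideal.Prime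

variable {X Y : Scheme.{u}}

theorem length_quot_of_surjective {O R S : Type u} [CommRing O] [CommRing R] [CommRing S]
    (φ : O →+* S) (hφ : Function.Surjective φ) (ψ : R →+* S) (hψ : Function.Surjective ψ)
    (I : Ideal O) (J : Ideal R) (hI : RingHom.ker φ = I) (hJ : RingHom.ker ψ = J) :
    Module.length O (O ⧸ I) = Module.length R (R ⧸ J) := by
  subst hI hJ
  have h1 : ∀ {A : Type u} [CommRing A] (χ : A →+* S), Function.Surjective χ →
      Module.length A (A ⧸ RingHom.ker χ) = Module.length S S := by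
    intro A _ χ hχ
    letI := χ.toAlgebra
    rw [← Module.length_eq_of_surjective (S := A) (R := S) (M := S) hχ]
    exact LinearEquiv.length_eq
      (Ideal.quotientKerAlgEquivOfSurjective (f := Algebra.ofId A S) hχ).toLinearEquiv
  rw [h1 φ hφ, h1 ψ hψ]

theorem length_stalk (J : X.IdealSheafData) (z : J.subscheme) :
    Module.length (J.subscheme.presheaf.stalk z) (J.subscheme.presheaf.stalk z) =
      Module.length (X.presheaf.stalk (J.subschemeι z))
        (X.presheaf.stalk (J.subschemeι z) ⧸ stalkIdeal J (J.subschemeι z)) := by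
  have h1 : stalkIdeal J.subschemeι.ker (J.subschemeι z) = RingHom.ker (J.subschemeι.stalkMap z).hom :=
    Groth.Agent.H19.IntMult.DiagChi.stalkIdeal_ker_closed J.subschemeι z
  rw [Scheme.IdealSheafData.ker_subschemeι] at h1
  rw [h1]
  letI := (J.subschemeι.stalkMap z).hom.toAlgebra
  rw [← Module.length_eq_of_surjective (S := X.presheaf.stalk (J.subschemeι z))
      (R := J.subscheme.presheaf.stalk z) (J.subschemeι.stalkMap_surjective z)]
  exact (LinearEquiv.length_eq
    (Ideal.quotientKerAlgEquivOfSurjective (f := Algebra.ofId (X.presheaf.stalk (J.subschemeι z))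
      (J.subscheme.presheaf.stalk z)) (J.subschemeι.stalkMap_surjective z)).toLinearEquiv).symm

theorem stalkIdeal_sup (A B : X.IdealSheafData) (x : X) :
    stalkIdeal (A ⊔ B) x = stalkIdeal A x ⊔ stalkIdeal B x := by
  obtain ⟨U, hU, hxU, -⟩ := exists_isAffineOpen_mem_and_subset (show x ∈ (⊤ : X.Opens) from trivial)
  rw [stalkIdeal_eq _ ⟨U, hU⟩ hxU, stalkIdeal_eq _ ⟨U, hU⟩ hxU, stalkIdeal_eq _ ⟨U, hU⟩ hxU,
    Scheme.IdealSheafData.ideal_sup, Pi.sup_apply, Ideal.map_sup]

/-- The length of the intersection of a closed subscheme with another is computed on the former. -/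
theorem length_inter (j : Y ⟶ X) [IsClosedImmersion j] (B : X.IdealSheafData) (y : Y)
    (z : (j.ker ⊔ B).subscheme) (hz : (j.ker ⊔ B).subschemeι z = j y) :
    Module.length ((j.ker ⊔ B).subscheme.presheaf.stalk z) ((j.ker ⊔ B).subscheme.presheaf.stalk z) =
      Module.length (Y.presheaf.stalk y) (Y.presheaf.stalk y ⧸ stalkIdeal (B.comap j) y) := by
  rw [length_stalk, hz, stalkIdeal_sup, stalkIdeal_comap]
  refine length_quot_of_surjective
    ((Ideal.Quotient.mk ((stalkIdeal B (j y)).map (j.stalkMap y).hom)).comp (j.stalkMap y).hom)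
    (Ideal.Quotient.mk_surjective.comp (j.stalkMap_surjective y)) (Ideal.Quotient.mk _)
    Ideal.Quotient.mk_surjective _ _ ?_ Ideal.mk_ker
  rw [← RingHom.comap_ker, Ideal.mk_ker, Ideal.comap_map_of_surjective _ (j.stalkMap_surjective y),
    ← RingHom.ker_eq_comap_bot, show stalkIdeal j.ker (j y) = RingHom.ker (j.stalkMap y).hom from
      Groth.Agent.H19.IntMult.DiagChi.stalkIdeal_ker_closed j y, sup_comm]

theorem length_lt_of_le_mul {R : Type u} [CommRing R] [IsDomain R] [IsLocalRing R] [IsPrincipalIdealRing R]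
    [Ring.KrullDimLE 1 R] {J₀ J₁ : Ideal R} (h : J₀ ≤ IsLocalRing.maximalIdeal R * J₁) (h0 : J₀ ≠ ⊥) :
    Module.length R (R ⧸ J₁) < Module.length R (R ⧸ J₀) := by
  have hle : J₀ ≤ J₁ := h.trans Ideal.mul_le_right
  have hne : J₀ ≠ J₁ := fun e => by
    subst e
    exact h0 (Submodule.eq_bot_of_le_smul_of_le_jacobson_bot _ _ (IsNoetherian.noetherian _)
      (le_of_le_of_eq h (Ideal.smul_eq_mul _ _).symm) (IsLocalRing.maximalIdeal_le_jacobson _))
  obtain ⟨x, hx⟩ := IsPrincipalIdealRing.principal J₀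
  have hx0 : x ≠ 0 := fun e => h0 (by rw [hx, e]; simp)
  have hfin : Module.length R (R ⧸ J₀) ≠ ⊤ := by
    rw [Module.length_ne_top_iff, hx]
    exact isFiniteLength_quotient_span_singleton R (mem_nonZeroDivisors_of_ne_zero hx0)
  set g := (Ideal.Quotient.factorₐ R hle).toLinearMap
  have hadd := Module.length_eq_add_of_exact (LinearMap.ker g).subtype g (Submodule.injective_subtype _)
    (Ideal.Quotient.factor_surjective hle) (LinearMap.exact_subtype_ker_map g)
  have hpos : 0 < Module.length R (LinearMap.ker g) := by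
    rw [Module.length_pos_iff, Submodule.nontrivial_iff_ne_bot]
    obtain ⟨a, ha, ha'⟩ := SetLike.exists_of_lt (lt_of_le_of_ne hle hne)
    intro hb
    refine ha' (Ideal.Quotient.eq_zero_iff_mem.1 ((Submodule.eq_bot_iff _).1 hb (Ideal.Quotient.mk J₀ a) ?_))
    rw [LinearMap.mem_ker]
    exact Ideal.Quotient.eq_zero_iff_mem.2 ha
  rw [hadd]
  have hb : Module.length R (R ⧸ J₁) ≠ ⊤ := fun e => hfin (by rw [hadd, e, add_top])
  simpa using (ENat.add_lt_add_iff_right hb).2 hpos

/-- The ideal of the closure of something away from an effective Cartier divisor is saturated. -/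
theorem mem_stalkIdeal_ker_of_mul {U : Scheme.{u}} (k : U ⟶ X) [QuasiCompact k] (E : X.IdealSheafData)
    (hk : ∀ u, k u ∉ E.support) (q : X) (W : X.affineOpens) (hqW : q ∈ W.1) (e : Γ(X, W.1))
    (hE : E.ideal W = Ideal.span {e}) (f : X.presheaf.stalk q)
    (hf : f * X.presheaf.germ W.1 q hqW e ∈ stalkIdeal k.ker q) : f ∈ stalkIdeal k.ker q := by
  letI := TopCat.Presheaf.algebra_section_stalk X.presheaf (⟨q, hqW⟩ : W.1)
  haveI := W.2.isLocalization_stalk ⟨q, hqW⟩
  rw [stalkIdeal_eq _ W hqW] at hf ⊢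
  obtain ⟨⟨a, s⟩, has⟩ := IsLocalization.surj (W.2.primeIdealOf ⟨q, hqW⟩).asIdeal.primeCompl f
  have hae : algebraMap Γ(X, W.1) (X.presheaf.stalk q) (a * e) ∈
      (k.ker.ideal W).map (algebraMap Γ(X, W.1) (X.presheaf.stalk q)) := by
    rw [map_mul, ← has, mul_assoc, mul_comm (algebraMap Γ(X, W.1) (X.presheaf.stalk q) s), ← mul_assoc]
    exact Ideal.mul_mem_right _ _ hf
  obtain ⟨t, ht, hte⟩ := (IsLocalization.algebraMap_mem_map_algebraMap_iff
    (W.2.primeIdealOf ⟨q, hqW⟩).asIdeal.primeCompl _ _ _).1 hae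
  have hu : IsUnit ((k.app W.1).hom e) := by
    refine U.toLocallyRingedSpace.toRingedSpace.isUnit_of_isUnit_germ _ _ fun u hu => ?_
    have h1 : X.presheaf.germ W.1 (k u) hu e ∉ IsLocalRing.maximalIdeal _ := fun hm => hk u (by
      by_contra hns
      have h2 := (ModelFibre.StalkIdeal.stalkIdeal_eq_top_iff E (k u)).2 hns
      rw [stalkIdeal_eq _ W hu, hE, Ideal.map_span, Set.image_singleton, Ideal.span_singleton_eq_top] at h2
      exact hm h2)
    have h2 := (not_not.1 h1 : IsUnit _).map (k.stalkMap u).hom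
    rwa [show (k.stalkMap u).hom (X.presheaf.germ W.1 (k u) hu e) = U.presheaf.germ _ u hu ((k.app W.1).hom e)
      from Scheme.Hom.germ_stalkMap_apply k W.1 u hu e] at h2
  rw [Scheme.Hom.ker_apply, RingHom.mem_ker, map_mul, map_mul, ← mul_assoc] at hte
  have hta : t * a ∈ k.ker.ideal W := by
    rw [Scheme.Hom.ker_apply, RingHom.mem_ker, map_mul]
    exact hu.mul_left_eq_zero.1 hte
  have hsu : IsUnit (algebraMap Γ(X, W.1) (X.presheaf.stalk q) s) :=
    IsLocalization.map_units _ s
  have htu : IsUnit (algebraMap Γ(X, W.1) (X.presheaf.stalk q) t) :=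
    IsLocalization.map_units _ (⟨t, ht⟩ : (W.2.primeIdealOf ⟨q, hqW⟩).asIdeal.primeCompl)
  have h3 := Ideal.mem_map_of_mem (algebraMap Γ(X, W.1) (X.presheaf.stalk q)) hta
  rw [map_mul, ← has, Ideal.unit_mul_mem_iff_mem _ htu] at h3
  exact (Ideal.mul_unit_mem_iff_mem _ hsu).1 h3

variable [IsLocallyNoetherian X] {Z : Scheme.{u}} [IsIntegral Z] (ι : Z ⟶ X) [IsClosedImmersion ι]
  {X' : Scheme.{u}} {b : X' ⟶ X} (y : Z) (hp : IsClosed ({ι y} : Set X))

theorem isEffCartier_comap_centre (hdim : topologicalKrullDim Z = 1)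
    (hreg : IsRegularLocalRing (Z.presheaf.stalk y)) (hy : y ≠ genericPoint Z) :
    BlowUp.IsEffCartierIdeal ((Scheme.IdealSheafData.vanishingIdeal ⟨{ι y}, hp⟩).comap ι) := by
  haveI : IsLocallyNoetherian Z := LocallyOfFiniteType.isLocallyNoetherian ι
  haveI := hreg
  have hyc := CDivInt.isClosed_singleton_of_ne_genericPoint hdim.le hy
  rw [comap_point ι y hyc hp]
  refine ModelFibre.StalkIdeal.isEffCartierIdeal (fun x => inferInstance) fun x => ?_
  by_cases hx : x = y
  · subst hx
    haveI := isPrincipalIdealRing_of_regular (Z.presheaf.stalk x) (stalk_dim_le_one hdim.le x)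
    obtain ⟨g, hg⟩ := IsPrincipalIdealRing.principal (IsLocalRing.maximalIdeal (Z.presheaf.stalk x))
    refine ⟨g, fun h0 => maximalIdeal_ne_bot x hyc hy (by rw [hg, h0]; simp), ?_⟩
    rw [stalkIdeal_vanishingIdeal_point x hyc, hg]
  · refine ⟨1, one_ne_zero, ?_⟩
    rw [Ideal.span_singleton_one, ModelFibre.StalkIdeal.stalkIdeal_eq_top_iff]
    exact fun hm => hx (show x ∈ ({y} : Set Z) from support_point y hyc ▸ hm)

theorem strict_eq (hdim : topologicalKrullDim Z = 1) (hy : y ≠ genericPoint Z)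
    (hb : BlowUp.IsBlowUp b (Scheme.IdealSheafData.vanishingIdeal ⟨{ι y}, hp⟩))
    (j : Z ⟶ X') [IsClosedImmersion j] (hj : j ≫ b = ι) (I : X.IdealSheafData) (hI : I = ι.ker) :
    Scheme.Hom.ker ((((I.comap b).subschemeι ⁻¹ᵁ
      (BlowUp.exceptional b (Scheme.IdealSheafData.vanishingIdeal ⟨{ι y}, hp⟩)).support.compl).ι) ≫
        (I.comap b).subschemeι) = j.ker := by
  subst hI
  set E := BlowUp.exceptional b (Scheme.IdealSheafData.vanishingIdeal ⟨{ι y}, hp⟩)
  set S := (ι.ker.comap b).subschemeι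
  set k := (S ⁻¹ᵁ E.support.compl).ι ≫ S
  haveI : IsProper b := BlowUpExists.isProper_of_isBlowUp hb fun U => by
    haveI := IsLocallyNoetherian.component_noetherian U
    exact IsNoetherian.noetherian _
  have hkb : ι.ker ≤ (k ≫ b).ker := by
    rw [Scheme.Hom.ker_comp, Scheme.IdealSheafData.le_map_iff_comap_le]
    exact le_of_eq_of_le (Scheme.IdealSheafData.ker_subschemeι _).symm (Scheme.Hom.le_ker_comp _ _)
  refine le_antisymm ?_ ?_
  · let U₀ : Z.Opens := j ⁻¹ᵁ E.support.compl
    have hjS : (ι.ker.comap b) ≤ j.ker := by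
      rw [← Scheme.IdealSheafData.le_map_iff_comap_le, ← Scheme.Hom.ker_comp, hj]
    let j₀ := IsClosedImmersion.lift S j (by rw [Scheme.IdealSheafData.ker_subschemeι]; exact hjS)
    have hj₀ : j₀ ≫ S = j := IsClosedImmersion.lift_fac _ _ _
    let m : (U₀ : Scheme.{u}) ⟶ (S ⁻¹ᵁ E.support.compl : Scheme.{u}) :=
      IsOpenImmersion.lift (S ⁻¹ᵁ E.support.compl).ι (U₀.ι ≫ j₀) (by
        rintro _ ⟨x, rfl⟩
        simp only [Scheme.Opens.range_ι]
        show S ((U₀.ι ≫ j₀) x) ∈ E.support.compl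
        rw [Scheme.Hom.comp_apply, ← Scheme.Hom.comp_apply j₀, hj₀]
        exact x.2)
    have hm : m ≫ k = U₀.ι ≫ j := by
      show m ≫ _ ≫ S = _
      rw [← Category.assoc, IsOpenImmersion.lift_fac, Category.assoc, hj₀]
    refine le_trans (m.le_ker_comp k) (le_of_eq ?_)
    rw [hm, Groth.Agent.H75.RedKer.ker_eq_vanishingIdeal, Groth.Agent.H75.RedKer.ker_eq_vanishingIdeal]
    congr 1
    ext1
    refine Set.Subset.antisymm (closure_mono (by rintro _ ⟨x, rfl⟩; exact ⟨U₀.ι x, rfl⟩)) ?_
    refine closure_minimal ?_ isClosed_closure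
    have hg : genericPoint Z ∈ U₀ := fun h => by
      rw [Scheme.IdealSheafData.support_comap] at h
      have h' : b (j (genericPoint Z)) ∈ ({ι y} : Set X) := support_point (ι y) hp ▸ h
      rw [← Scheme.Hom.comp_apply, hj] at h'
      exact hy (ι.isEmbedding.injective (Set.mem_singleton_iff.1 h')).symm
    rintro _ ⟨z, rfl⟩
    refine closure_mono (Set.singleton_subset_iff.2 ?_) (specializes_iff_mem_closure.1
      (((genericPoint_spec Z).specializes (Set.mem_univ z)).map j.continuous))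
    exact ⟨⟨_, hg⟩, rfl⟩
  · let m := IsClosedImmersion.lift ι (k ≫ b) hkb
    have hm : m ≫ ι = k ≫ b := IsClosedImmersion.lift_fac _ _ _
    have he : BlowUp.IsEffCartierIdeal ((Scheme.IdealSheafData.vanishingIdeal ⟨{ι y}, hp⟩).comap (k ≫ b)) := by
      rw [Scheme.IdealSheafData.comap_comp]
      exact Ideal.EffCartier.isEffCartier_comap_of_disjoint k fun x => x.2
    obtain ⟨l, -, huniq⟩ := hb.2 _ (k ≫ b) he
    have hk : k = m ≫ j := (huniq k rfl).trans (huniq (m ≫ j) (by simp only [Category.assoc, hj, hm])).symm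
    rw [hk]
    exact m.le_ker_comp j

/-- The intersection ideal with the curve drops after blowing up. -/
theorem comap_le_mul (W : X.IdealSheafData) (hW : ι y ∈ W.support)
    (hb : BlowUp.IsBlowUp b (Scheme.IdealSheafData.vanishingIdeal ⟨{ι y}, hp⟩))
    (j : Z ⟶ X') (hj : j ≫ b = ι) (W' : X'.IdealSheafData)
    (hW' : W' = Scheme.Hom.ker ((((W.comap b).subschemeι ⁻¹ᵁ
      (BlowUp.exceptional b (Scheme.IdealSheafData.vanishingIdeal ⟨{ι y}, hp⟩)).support.compl).ι) ≫
        (W.comap b).subschemeι)) :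
    stalkIdeal (W.comap ι) y ≤ IsLocalRing.maximalIdeal (Z.presheaf.stalk y) * stalkIdeal (W'.comap j) y := by
  haveI : IsProper b := BlowUpExists.isProper_of_isBlowUp hb fun U => by
    haveI := IsLocallyNoetherian.component_noetherian U
    exact IsNoetherian.noetherian _
  haveI : IsLocallyNoetherian X' := LocallyOfFiniteType.isLocallyNoetherian b
  haveI : IsLocallyNoetherian (W.comap b).subscheme :=
    LocallyOfFiniteType.isLocallyNoetherian (W.comap b).subschemeι
  subst hj
  set E := BlowUp.exceptional b (Scheme.IdealSheafData.vanishingIdeal ⟨{(j ≫ b) y}, hp⟩)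
  set k := ((W.comap b).subschemeι ⁻¹ᵁ E.support.compl).ι ≫ (W.comap b).subschemeι
  set q := j y
  obtain ⟨U, hqU, e, -, he⟩ := hb.1 q
  set e₀ := X'.presheaf.germ U.1 q hqU e
  have hE : (IsLocalRing.maximalIdeal (X.presheaf.stalk (b q))).map (b.stalkMap q).hom = Ideal.span {e₀} := by
    have := stalkIdeal_comap b (Scheme.IdealSheafData.vanishingIdeal ⟨{(j ≫ b) y}, hp⟩) q
    rw [stalkIdeal_eq _ U hqU, he, Ideal.map_span, Set.image_singleton] at this
    rw [this]
    congr 1
    exact (stalkIdeal_vanishingIdeal_point (b q) hp).symm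
  rw [stalkIdeal_comap, stalkIdeal_comap, Ideal.map_le_iff_le_comap]
  intro f hf
  have hfm : f ∈ IsLocalRing.maximalIdeal (X.presheaf.stalk (b q)) := by
    refine IsLocalRing.le_maximalIdeal (R := X.presheaf.stalk (b q)) (J := stalkIdeal W (b q)) (fun htop => ?_) hf
    exact (ModelFibre.StalkIdeal.stalkIdeal_eq_top_iff _ _).1 htop hW
  obtain ⟨f', hf'⟩ := Ideal.mem_span_singleton'.1 (hE.le (Ideal.mem_map_of_mem _ hfm))
  rw [Ideal.mem_comap]
  have hst : ((j ≫ b).stalkMap y).hom f = (j.stalkMap y).hom ((b.stalkMap q).hom f) := by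
    rw [Scheme.Hom.stalkMap_comp]; rfl
  rw [hst, ← hf', map_mul, mul_comm ((j.stalkMap y).hom f')]
  refine Ideal.mul_mem_mul ?_ (Ideal.mem_map_of_mem _ ?_)
  · have hle : (IsLocalRing.maximalIdeal (X.presheaf.stalk (b q))).map (b.stalkMap q).hom ≤
        IsLocalRing.maximalIdeal (X'.presheaf.stalk q) :=
      Ideal.map_le_iff_le_comap.2 fun a ha hu => ha ((isUnit_map_iff (b.stalkMap q).hom a).1 hu)
    have hem := hle (hE.ge (Ideal.mem_span_singleton_self e₀))
    exact fun hu => hem ((isUnit_map_iff (j.stalkMap y).hom e₀).1 hu)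
  have hle' : W.comap b ≤ k.ker :=
    le_of_eq_of_le (Scheme.IdealSheafData.ker_subschemeι _).symm (Scheme.Hom.le_ker_comp _ _)
  rw [hW']
  refine mem_stalkIdeal_ker_of_mul k E (fun u => u.2) q U hqU e he f' ?_
  rw [hf', stalkIdeal_eq _ U hqU]
  refine Ideal.map_mono (show (W.comap b).ideal U ≤ k.ker.ideal U from hle' U) ?_
  rw [← stalkIdeal_eq (W.comap b) U hqU, stalkIdeal_comap]
  exact Ideal.mem_map_of_mem _ hf

end Groth.Agent.H81.CurveRes
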