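import Groth.Agent.H81.CurveRes.Embedded
import Groth.Agent.H19.IntMult.DiagChi
import Groth.Agent.Lib.FinCond.Noetherian

/-!
# Separating finitely many curves by point blow-ups
-/

set_option autoImplicit false
set_option backward.isDefEq.respectTransparency.types false

universe u

open CategoryTheory CategoryTheory.Limits AlgebraicGeometry TopologicalSpace Opposite

namespace Groth.Agent.H81.CurveRes

open Groth.Agent.Lib Groth.Agent.Lib.Ideal.Prime

variable {X Y : Scheme.{u}}

theorem seq_isProper {Y' : Scheme.{u}} (g : Y' ⟶ Y) (hg : Resolve.IsPtBlowupSeq g) :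
    ∀ [IsLocallyNoetherian Y], IsProper g := by
  induction hg with
  | @iso A B e => intro _; infer_instance
  | @step A Z B b r z hz hb hr ih =>
    intro _
    haveI := ih
    haveI : IsLocallyNoetherian Z := LocallyOfFiniteType.isLocallyNoetherian r
    haveI : IsProper b := BlowUpExists.isProper_of_isBlowUp hb fun U => by
      haveI := IsLocallyNoetherian.component_noetherian U
      exact IsNoetherian.noetherian _
    infer_instance

theorem isBlowUp_iso_comp {X' X'' : Scheme.{u}} {b : X' ⟶ X} {I : X.IdealSheafData}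
    (hb : BlowUp.IsBlowUp b I) (k : X'' ⟶ X') [IsIso k] : BlowUp.IsBlowUp (k ≫ b) I := by
  refine ⟨?_, fun Y g hg => ?_⟩
  · rw [Scheme.IdealSheafData.comap_comp]
    exact Ideal.EffCartier.isEffCartier_comap_of_flat _ hb.1
  · obtain ⟨l, hl, hlu⟩ := hb.2 Y g hg
    refine ⟨l ≫ inv k, ?_, fun l' hl' => ?_⟩
    · show (l ≫ inv k) ≫ k ≫ b = g
      rw [Category.assoc, IsIso.inv_hom_id_assoc, hl]
    · rw [IsIso.eq_comp_inv]
      refine hlu _ ?_
      show (l' ≫ k) ≫ b = g
      rw [Category.assoc]; exact hl'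

theorem seq_iso_comp {A B : Scheme.{u}} (s : A ⟶ B) (hs : Resolve.IsPtBlowupSeq s) :
    ∀ {A' : Scheme.{u}} (e : A' ≅ A), Resolve.IsPtBlowupSeq (e.hom ≫ s) := by
  induction hs with
  | @iso A B f => intro A' e; exact .iso (e ≪≫ f)
  | @step A Z B b r z hz hb hr ih =>
    intro A' e
    rw [← Category.assoc]
    exact .step (e.hom ≫ b) r z hz (isBlowUp_iso_comp hb e.hom) hr

theorem seq_comp {A B : Scheme.{u}} (a : A ⟶ B) (ha : Resolve.IsPtBlowupSeq a) :
    ∀ {C : Scheme.{u}} (b : B ⟶ C), Resolve.IsPtBlowupSeq b → Resolve.IsPtBlowupSeq (a ≫ b) := by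
  induction ha with
  | @iso A B e => intro C b hb; exact seq_iso_comp b hb e
  | @step A Z B c r z hz hc hr ih =>
    intro C b hb
    rw [Category.assoc]
    exact .step c (r ≫ b) z hz hc (ih b hb)

/-- Proper birational morphisms of integral schemes. -/
def PB {Z Y : Scheme.{u}} (g : Z ⟶ Y) : Prop :=
  IsProper g ∧ ∃ V : Y.Opens, (V : Set Y).Nonempty ∧ IsIso (g ∣_ V)

theorem PB.dim [IsIntegral X] [IsIntegral Y] [IsNoetherian Y] (hdim : topologicalKrullDim Y = 1)
    {g : X ⟶ Y} (h : PB g) : topologicalKrullDim X = 1 := by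
  obtain ⟨hp, V, hne, hV⟩ := h
  haveI := hp
  refine le_antisymm (dim_le_one hdim.le g V hne hV) ?_
  obtain ⟨hgen, -⟩ := ZMTStein.generic_of_isIso_restrict g V hne hV
  obtain ⟨x, hx⟩ : ∃ x : X, x ≠ genericPoint X := by
    by_contra! hall
    refine genericPoint_not_isClosed hdim ?_
    have h1 : IsClosed ({genericPoint X} : Set X) := by
      have : ({genericPoint X} : Set X) = Set.univ := Set.eq_univ_of_forall hall
      rw [this]; exact isClosed_univ
    have := g.isClosedMap _ h1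
    rwa [Set.image_singleton, hgen] at this
  let a : IrreducibleCloseds X := ⟨closure {x}, isIrreducible_singleton.closure, isClosed_closure⟩
  let c : IrreducibleCloseds X :=
    ⟨closure {genericPoint X}, isIrreducible_singleton.closure, isClosed_closure⟩
  have hac : a < c := by
    refine lt_of_le_of_ne (show closure {x} ⊆ closure {genericPoint X} from
      specializes_iff_closure_subset.mp ((genericPoint_spec X).specializes trivial)) fun e => hx ?_
    have e' : closure ({x} : Set X) = closure {genericPoint X} := congrArg SetLike.coe e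
    exact (inseparable_iff_closure_eq.mpr e').eq
  let s : LTSeries (IrreducibleCloseds X) := (RelSeries.singleton _ a).snoc c (by simpa using hac)
  exact le_trans (le_of_eq (by rfl)) (Order.LTSeries.length_le_krullDim s)

theorem PB.comp {Z : Scheme.{u}} [IsIntegral X] [IsIntegral Y] [IsIntegral Z] {b : X ⟶ Z} {g : Z ⟶ Y}
    (hb : PB b) (hg : PB g) : PB (b ≫ g) := by
  obtain ⟨hbp, U, hUne, hU⟩ := hb
  obtain ⟨hgp, V, hne, hV⟩ := hg
  haveI := hbp; haveI := hgp
  obtain ⟨hgen, -⟩ := ZMTStein.generic_of_isIso_restrict g V hne hV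
  have huniq := ((isBirational_of_isIso_restrict g V hne hV).2 (genericPoint Y)
    (by rw [genericPoints_eq_singleton]; rfl)).1
  have hK : IsClosed (g '' (U : Set Z)ᶜ) := g.isClosedMap _ U.2.isClosed_compl
  let V' : Y.Opens := V ⊓ ⟨(g '' (U : Set Z)ᶜ)ᶜ, hK.isOpen_compl⟩
  have hgV : genericPoint Y ∈ V := ((genericPoint_spec Y).mem_open_set_iff V.2).2 (by simpa using hne)
  have hgU : genericPoint Z ∈ U := ((genericPoint_spec Z).mem_open_set_iff U.2).2 (by simpa using hUne)
  refine ⟨inferInstance, V', ⟨genericPoint Y, hgV, ?_⟩, ?_⟩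
  · rintro ⟨x, hxU, hx⟩
    exact hxU ((huniq x _ hx hgen) ▸ hgU)
  · rw [morphismRestrict_comp]
    exact IsIso.comp_isIso' (isIso_restrict_le b hU fun x hx => by_contra fun hxU => hx.2 ⟨x, hxU, rfl⟩)
      (isIso_restrict_le g hV inf_le_left)

/-- The strict transform datum of a curve in `W`. -/
structure Cur {W X Y : Scheme.{u}} (G : W ⟶ X) (ι : Y ⟶ X) where
  Z : Scheme.{u}
  int : IsIntegral Z
  g : Z ⟶ Y
  pb : PB g
  j : Z ⟶ W
  closed : IsClosedImmersion j
  comm : j ≫ G = g ≫ ι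

def Cur.Regular {W X Y : Scheme.{u}} {G : W ⟶ X} {ι : Y ⟶ X} (C : Cur G ι) : Prop :=
  ∀ z : C.Z, IsRegularLocalRing (C.Z.presheaf.stalk z)

def Cur.Resolvable {W X Y : Scheme.{u}} {G : W ⟶ X} {ι : Y ⟶ X} (C : Cur G ι) : Prop :=
  ∃ (R : Scheme.{u}) (_ : IsIntegral R) (h : R ⟶ C.Z), PB h ∧ ∀ z : R, IsRegularLocalRing (R.presheaf.stalk z)

theorem genericPoint_notMem_comap {Z W : Scheme.{u}} [IsIntegral Z] (hdim : topologicalKrullDim Z = 1)
    (j : Z ⟶ W) [IsClosedImmersion j] (w : W) (hw : IsClosed ({w} : Set W)) :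
    genericPoint Z ∉ ((Scheme.IdealSheafData.vanishingIdeal ⟨{w}, hw⟩).comap j).support := by
  intro h
  rw [Scheme.IdealSheafData.support_comap] at h
  have h' : j (genericPoint Z) ∈ ({w} : Set W) := support_point w hw ▸ h
  refine genericPoint_not_isClosed hdim ?_
  have : ({genericPoint Z} : Set Z) = j ⁻¹' {w} := by
    ext x
    simp only [Set.mem_singleton_iff, Set.mem_preimage]
    exact ⟨fun e => e ▸ h', fun e => j.isEmbedding.injective (e.trans (Set.mem_singleton_iff.1 h').symm)⟩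
  rw [this]; exact hw.preimage j.continuous

variable {W : Scheme.{u}} {G : W ⟶ X} {ι : Y ⟶ X}

theorem isEffCartier_comap_point [IsIntegral Y] [IsNoetherian Y] (hdim : topologicalKrullDim Y = 1)
    {R : Scheme.{u}} [IsIntegral R] (C : Cur G ι) (h : R ⟶ C.Z) (hh : PB h)
    (hreg : ∀ z : R, IsRegularLocalRing (R.presheaf.stalk z)) (w : W) (hw : IsClosed ({w} : Set W)) :
    BlowUp.IsEffCartierIdeal ((Scheme.IdealSheafData.vanishingIdeal ⟨{w}, hw⟩).comap (h ≫ C.j)) := by
  haveI := C.int; haveI := C.closed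
  have hpb := C.pb
  obtain ⟨hgp, -⟩ := id hpb
  obtain ⟨hhp, U, hUne, hU⟩ := id hh
  haveI := hgp; haveI := hhp
  haveI : IsLocallyNoetherian C.Z := LocallyOfFiniteType.isLocallyNoetherian C.g
  haveI : IsLocallyNoetherian R := LocallyOfFiniteType.isLocallyNoetherian h
  refine isEffCartier_of_regular ((hh.comp hpb).dim hdim).le hreg _ ?_
  rw [Scheme.IdealSheafData.comap_comp, Scheme.IdealSheafData.support_comap]
  intro hm
  refine genericPoint_notMem_comap (hpb.dim hdim) C.j w hw ?_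
  rw [← (ZMTStein.generic_of_isIso_restrict h U hUne hU).1]
  exact hm

/-- A regular curve lifts to a point blow-up. -/
theorem Cur.lift_regular [IsIntegral Y] [IsNoetherian Y] (hdim : topologicalKrullDim Y = 1) [IsLocallyNoetherian W]
    {W' : Scheme.{u}} (c : W' ⟶ W) (w : W) (hw : IsClosed ({w} : Set W))
    (hc : BlowUp.IsBlowUp c (Scheme.IdealSheafData.vanishingIdeal ⟨{w}, hw⟩))
    (C : Cur G ι) (hC : C.Regular) :
    ∃ (j : C.Z ⟶ W'), IsClosedImmersion j ∧ j ≫ c = C.j := by
  haveI := C.int; haveI := C.closed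
  have h1 := isEffCartier_comap_point hdim C (𝟙 C.Z)
    ⟨inferInstance, ⊤, by simpa using (inferInstance : Nonempty C.Z), isIso_restrict_of_isIso _ _⟩ hC w hw
  rw [Category.id_comp] at h1
  obtain ⟨j, hj, -⟩ := hc.2 C.Z C.j h1
  haveI : IsProper c := BlowUpExists.isProper_of_isBlowUp hc fun U => by
    haveI := IsLocallyNoetherian.component_noetherian U
    exact IsNoetherian.noetherian _
  haveI : IsClosedImmersion (j ≫ c) := hj.symm ▸ C.closed
  exact ⟨j, IsClosedImmersion.of_comp j c, hj⟩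

theorem Cur.transport_step [IsIntegral Y] [IsNoetherian Y] (hdim : topologicalKrullDim Y = 1) [IsLocallyNoetherian W]
    {W' : Scheme.{u}} (c : W' ⟶ W) (w : W) (hw : IsClosed ({w} : Set W))
    (hc : BlowUp.IsBlowUp c (Scheme.IdealSheafData.vanishingIdeal ⟨{w}, hw⟩))
    (C : Cur G ι) (hC : C.Resolvable) :
    ∃ C' : Cur (c ≫ G) ι, C'.Resolvable ∧ (C.Regular → C'.Regular) := by
  haveI := C.int; haveI := C.closed
  by_cases hreg : C.Regular
  · obtain ⟨j, hjc, hj⟩ := C.lift_regular hdim c w hw hc hreg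
    let C' : Cur (c ≫ G) ι := ⟨C.Z, C.int, C.g, C.pb, j, hjc, by rw [← Category.assoc, hj, C.comm]⟩
    exact ⟨C', ⟨C.Z, C.int, 𝟙 C.Z,
      ⟨inferInstance, ⊤, by simpa using (inferInstance : Nonempty C.Z), isIso_restrict_of_isIso _ _⟩, hreg⟩,
      fun _ => hreg⟩
  obtain ⟨R, hR, h, hh, hRreg⟩ := hC
  haveI := hR
  have hpb := C.pb
  obtain ⟨hgp, -⟩ := id hpb
  obtain ⟨hhp, -⟩ := id hh
  haveI := hgp; haveI := hhp
  haveI : IsLocallyNoetherian C.Z := LocallyOfFiniteType.isLocallyNoetherian C.g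
  have hZdim := hpb.dim hdim
  set I := (Scheme.IdealSheafData.vanishingIdeal ⟨{w}, hw⟩).comap C.j
  have hgenI : genericPoint C.Z ∉ I.support := genericPoint_notMem_comap hZdim C.j w hw
  obtain ⟨A, b, hb⟩ := BlowUpExists.exists_isBlowUp C.Z I
  obtain ⟨hA, -⟩ := S2348.result I (fun h0 => hgenI (by rw [h0, Scheme.IdealSheafData.support_bot]; trivial)) b hb
  haveI := hA
  haveI : IsProper b := BlowUpExists.isProper_of_isBlowUp hb fun U => by
    haveI := IsLocallyNoetherian.component_noetherian U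
    exact IsNoetherian.noetherian _
  have hbpb : PB b := ⟨inferInstance, I.support.compl, ⟨_, hgenI⟩, Ideal.BlowUp.isIso_off_center hb⟩
  have he : BlowUp.IsEffCartierIdeal (I.comap h) := by
    rw [← Scheme.IdealSheafData.comap_comp]
    exact isEffCartier_comap_point hdim C h hh hRreg w hw
  obtain ⟨h', hh', -⟩ := hb.2 R h he
  obtain ⟨j', hj', -⟩ := hc.2 A (b ≫ C.j) (by rw [Scheme.IdealSheafData.comap_comp]; exact hb.1)
  have hjc := BlowStrict85.isClosedImmersion_lift _ C.j c hc b hb j' hj'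
  let C' : Cur (c ≫ G) ι := ⟨A, hA, b ≫ C.g, hbpb.comp hpb, j', hjc,
    by rw [← Category.assoc, hj', Category.assoc, C.comm, Category.assoc]⟩
  refine ⟨C', ⟨R, hR, h', ⟨?_, ?_⟩, hRreg⟩, fun hr => absurd hr hreg⟩
  · haveI : IsProper (h' ≫ b) := hh'.symm ▸ hhp
    exact IsProper.of_comp h' b
  · obtain ⟨-, U, hUne, hU⟩ := hh
    obtain ⟨-, V, hVne, hV⟩ := hbpb
    have hg1 : genericPoint C.Z ∈ U := ((genericPoint_spec C.Z).mem_open_set_iff U.2).2 (by simpa using hUne)
    have hg2 : genericPoint C.Z ∈ V := ((genericPoint_spec C.Z).mem_open_set_iff V.2).2 (by simpa using hVne)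
    have hbg := (ZMTStein.generic_of_isIso_restrict b V hVne hV).1
    refine ⟨b ⁻¹ᵁ (U ⊓ V), ⟨genericPoint A, show b (genericPoint A) ∈ U ⊓ V from hbg.symm ▸ ⟨hg1, hg2⟩⟩, ?_⟩
    haveI h2 : IsIso (b ∣_ (U ⊓ V)) := isIso_restrict_le b hV inf_le_right
    have h3 : IsIso (h ∣_ (U ⊓ V)) := isIso_restrict_le h hU inf_le_left
    subst hh'
    rw [morphismRestrict_comp] at h3
    exact (MorphismProperty.isomorphisms Scheme.{u}).of_postcomp (h' ∣_ (b ⁻¹ᵁ (U ⊓ V))) (b ∣_ (U ⊓ V)) h2 h3

end Groth.Agent.H81.CurveRes
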