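import Groth.Agent.H81.CurveRes.Multi
import Groth.Agent.H75.RedKer

/-!
# Making finitely many curves regular and disjoint
-/

set_option autoImplicit false
set_option backward.isDefEq.respectTransparency.types false

universe u

open CategoryTheory CategoryTheory.Limits AlgebraicGeometry TopologicalSpace Opposite

namespace Groth.Agent.H81.CurveRes

open Groth.Agent.Lib Groth.Agent.Lib.Ideal.Prime

variable {X Y : Scheme.{u}}

theorem PB.id [IsIntegral Y] : PB (𝟙 Y) :=
  ⟨inferInstance, ⊤, by simpa using (inferInstance : Nonempty Y), isIso_restrict_of_isIso _ _⟩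

theorem transport_seq [IsIntegral Y] [IsNoetherian Y] (hdim : topologicalKrullDim Y = 1) (ι : Y ⟶ X)
    {W' W : Scheme.{u}} (G' : W' ⟶ W) (hG' : Resolve.IsPtBlowupSeq G') :
    ∀ [IsLocallyNoetherian W] (G : W ⟶ X) (C : Cur G ι), C.Resolvable →
      ∃ C' : Cur (G' ≫ G) ι, C'.Resolvable ∧ (C.Regular → C'.Regular) := by
  induction hG' with
  | @iso A B e =>
    intro _ G C hC
    haveI := C.closed
    let C' : Cur (e.hom ≫ G) ι := ⟨C.Z, C.int, C.g, C.pb, C.j ≫ e.inv, inferInstance,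
      by rw [Category.assoc, e.inv_hom_id_assoc, C.comm]⟩
    exact ⟨C', hC, fun h => h⟩
  | @step A Z B b r z hz hb hr ih =>
    intro _ G C hC
    haveI := seq_isProper r hr
    haveI : IsLocallyNoetherian Z := LocallyOfFiniteType.isLocallyNoetherian r
    obtain ⟨C₁, hC₁, h₁⟩ := ih G C hC
    obtain ⟨C₂, hC₂, h₂⟩ := C₁.transport_step hdim b z hz hb hC₁
    rw [Category.assoc]
    exact ⟨C₂, hC₂, fun h => h₂ (h₁ h)⟩

theorem exists_regular_family [IsNoetherian X] {n : ℕ} (Y : Fin n → Scheme.{u}) [∀ i, IsIntegral (Y i)]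
    [∀ i, IsNoetherian (Y i)] (hdim : ∀ i, topologicalKrullDim (Y i) = 1) (ι : ∀ i, Y i ⟶ X)
    [∀ i, IsClosedImmersion (ι i)]
    (hres : ∀ i, ∃ (R : Scheme.{u}) (_ : IsIntegral R) (h : R ⟶ Y i), PB h ∧
      ∀ z : R, IsRegularLocalRing (R.presheaf.stalk z)) :
    ∀ k : ℕ, ∃ (W : Scheme.{u}) (G : W ⟶ X), Resolve.IsPtBlowupSeq G ∧
      ∀ i, ∃ C : Cur G (ι i), C.Resolvable ∧ ((i : ℕ) < k → C.Regular) := by
  intro k
  induction k with
  | zero =>
    refine ⟨X, (Iso.refl X).hom, .iso _, fun i => ⟨⟨Y i, inferInstance, 𝟙 _, PB.id, ι i, inferInstance,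
      by simp⟩, hres i, fun h => absurd h (Nat.not_lt_zero _)⟩⟩
  | succ k ih =>
    obtain ⟨W, G, hG, hC⟩ := ih
    haveI := seq_isProper G hG
    haveI : IsLocallyNoetherian W := LocallyOfFiniteType.isLocallyNoetherian G
    by_cases hk : k < n
    · obtain ⟨C, ⟨R, hR, h, hh, hRreg⟩, -⟩ := hC ⟨k, hk⟩
      haveI := hR; haveI := C.int; haveI := C.closed
      obtain ⟨hgp, -⟩ := id C.pb
      haveI := hgp
      haveI : IsNoetherian C.Z :=
        { toIsLocallyNoetherian := LocallyOfFiniteType.isLocallyNoetherian C.g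
          toCompactSpace := QuasiCompact.compactSpace_of_compactSpace C.g }
      have hZdim := C.pb.dim (hdim _)
      obtain ⟨hhp, V, hne, hV⟩ := hh
      haveI := hhp
      obtain ⟨Z', s, hs, hreg⟩ := exists_seq hZdim h V hne hV hRreg
      obtain ⟨hZ', hsp, hsV⟩ := seq_props s hs hZdim
      haveI := hZ'
      obtain ⟨W', G', j, hG', hj, e⟩ := exists_ambient s hs C.j
      refine ⟨W', G' ≫ G, seq_comp G' hG' G hG, fun i => ?_⟩
      by_cases hik : (i : ℕ) = k
      · obtain rfl : i = ⟨k, hk⟩ := Fin.ext hik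
        let C' : Cur (G' ≫ G) (ι ⟨k, hk⟩) := ⟨Z', hZ', s ≫ C.g, PB.comp ⟨hsp, hsV⟩ C.pb, j, hj,
          by rw [← Category.assoc, e, Category.assoc, C.comm, Category.assoc]⟩
        exact ⟨C', ⟨Z', hZ', 𝟙 Z', PB.id, hreg⟩, fun _ => hreg⟩
      · obtain ⟨Ci, hCi, hlt⟩ := hC i
        obtain ⟨C', hC', hR'⟩ := transport_seq (hdim i) (ι i) G' hG' G Ci hCi
        exact ⟨C', hC', fun h' => hR' (hlt (by omega))⟩
    · refine ⟨W, G, hG, fun i => ?_⟩
      obtain ⟨C, hC', hlt⟩ := hC i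
      exact ⟨C, hC', fun _ => hlt (by omega)⟩

theorem maximalIdeal_ne_bot [IsIntegral Y] (y : Y) (hy : IsClosed ({y} : Set Y)) (hyg : y ≠ genericPoint Y) :
    IsLocalRing.maximalIdeal (Y.presheaf.stalk y) ≠ ⊥ := fun h => by
  have hs := (genericPoint_spec Y).specializes (Set.mem_univ y)
  have h1 := ModelFibre.StalkIdeal.map_stalkSpecializes
    (Scheme.IdealSheafData.vanishingIdeal ⟨{y}, hy⟩) hs
  rw [stalkIdeal_vanishingIdeal_point y hy, h, Ideal.map_bot,
    (ModelFibre.StalkIdeal.stalkIdeal_eq_top_iff _ _).2 fun hm =>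
      hyg (show genericPoint Y ∈ ({y} : Set Y) from support_point y hy ▸ hm).symm] at h1
  exact bot_ne_top h1

theorem mem_support_ker {Z W : Scheme.{u}} (j : Z ⟶ W) [IsClosedImmersion j] {w : W} :
    w ∈ j.ker.support ↔ w ∈ Set.range j := by
  rw [← SetLike.mem_coe, Scheme.Hom.support_ker]
  show w ∈ closure (Set.range j) ↔ _
  rw [j.isClosedEmbedding.isClosed_range.closure_eq]

theorem mem_ker_of_strict {Z' W W' : Scheme.{u}} [IsIntegral Z'] (jl' : Z' ⟶ W') [IsClosedImmersion jl']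
    (c : W' ⟶ W) [IsClosedImmersion (jl' ≫ c)] (x : Z') (hx : x ≠ genericPoint Z') (q : W') (hq : jl' x = q)
    (hz : IsClosed ({c q} : Set W)) (f : W.presheaf.stalk (c q)) (hf : f ∈ stalkIdeal (jl' ≫ c).ker (c q))
    (f' e₀ : W'.presheaf.stalk q)
    (hE : (IsLocalRing.maximalIdeal (W.presheaf.stalk (c q))).map (c.stalkMap q).hom = Ideal.span {e₀})
    (hf' : f' * e₀ = (c.stalkMap q).hom f) : f' ∈ stalkIdeal jl'.ker q := by
  subst hq
  have hst : ∀ a, ((jl' ≫ c).stalkMap x).hom a = (jl'.stalkMap x).hom ((c.stalkMap (jl' x)).hom a) := fun a => by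
    rw [Scheme.Hom.stalkMap_comp]; rfl
  have h1 : stalkIdeal (jl' ≫ c).ker ((jl' ≫ c) x) = RingHom.ker ((jl' ≫ c).stalkMap x).hom :=
    Groth.Agent.H19.IntMult.DiagChi.stalkIdeal_ker_closed (jl' ≫ c) x
  have h2 : stalkIdeal jl'.ker (jl' x) = RingHom.ker (jl'.stalkMap x).hom :=
    Groth.Agent.H19.IntMult.DiagChi.stalkIdeal_ker_closed jl' x
  have hx0 : (jl'.stalkMap x).hom (f' * e₀) = 0 := by
    rw [hf', ← hst]
    exact RingHom.mem_ker.1 (h1.le hf)
  rw [h2, RingHom.mem_ker]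
  rw [map_mul] at hx0
  refine (mul_eq_zero.1 hx0).resolve_right fun h0 => ?_
  have hxc : IsClosed ({x} : Set Z') := by
    have : ({x} : Set Z') = (jl' ≫ c) ⁻¹' {c (jl' x)} := by
      ext y
      simp only [Set.mem_singleton_iff, Set.mem_preimage]
      exact ⟨fun e => by rw [e, Scheme.Hom.comp_apply], fun e => (jl' ≫ c).isEmbedding.injective
        (e.trans (Scheme.Hom.comp_apply jl' c x).symm)⟩
    rw [this]; exact hz.preimage (jl' ≫ c).continuous
  refine maximalIdeal_ne_bot x hxc hx (le_bot_iff.1 fun b hb => ?_)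
  obtain ⟨a, rfl⟩ := (jl' ≫ c).stalkMap_surjective x b
  have ha : a ∈ IsLocalRing.maximalIdeal _ := fun hu => hb (hu.map _)
  obtain ⟨t, ht⟩ := Ideal.mem_span_singleton'.1 (hE.le (Ideal.mem_map_of_mem _ ha))
  show ((jl' ≫ c).stalkMap x).hom a = 0
  rw [hst, ← ht, map_mul, h0, mul_zero]

/-- The intersection ideal strictly grows at a blown-up common point. -/
theorem stalkIdeal_le_mul {Z Z' W W' : Scheme.{u}} [IsIntegral Z'] (j : Z ⟶ W) (j' : Z' ⟶ W)
    [IsClosedImmersion j] [IsClosedImmersion j'] (jl : Z ⟶ W') (jl' : Z' ⟶ W') [IsClosedImmersion jl']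
    (c : W' ⟶ W) (hj : jl ≫ c = j) (hj' : jl' ≫ c = j') (z : Z) (z' : Z') (hzz : j z = j' z')
    (hz : IsClosed ({j z} : Set W)) (hz' : z' ≠ genericPoint Z')
    (hc : BlowUp.IsBlowUp c (Scheme.IdealSheafData.vanishingIdeal ⟨{j z}, hz⟩)) :
    stalkIdeal (j'.ker.comap j) z ≤
      IsLocalRing.maximalIdeal (Z.presheaf.stalk z) * stalkIdeal (jl'.ker.comap jl) z := by
  subst hj hj'
  rw [stalkIdeal_comap, stalkIdeal_comap]
  set q := jl z
  obtain ⟨U, hqU, e, -, he⟩ := hc.1 q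
  have hE : (IsLocalRing.maximalIdeal (W.presheaf.stalk (c q))).map (c.stalkMap q).hom =
      Ideal.span {W'.presheaf.germ U.1 q hqU e} := by
    have := stalkIdeal_comap c (Scheme.IdealSheafData.vanishingIdeal ⟨{(jl ≫ c) z}, hz⟩) q
    rw [stalkIdeal_eq _ U hqU, he, Ideal.map_span, Set.image_singleton] at this
    rw [this]
    congr 1
    exact (stalkIdeal_vanishingIdeal_point (c q) hz).symm
  set e₀ := W'.presheaf.germ U.1 q hqU e
  rw [Ideal.map_le_iff_le_comap]
  intro f hf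
  have hfm : f ∈ IsLocalRing.maximalIdeal (W.presheaf.stalk (c q)) := by
    refine IsLocalRing.le_maximalIdeal (R := W.presheaf.stalk (c q))
      (J := stalkIdeal (jl' ≫ c).ker (c q)) (fun htop => ?_) hf
    exact (ModelFibre.StalkIdeal.stalkIdeal_eq_top_iff _ _).1 htop
      ((mem_support_ker _).2 ⟨z', hzz.symm⟩)
  obtain ⟨f', hf'⟩ := Ideal.mem_span_singleton'.1 (hE.le (Ideal.mem_map_of_mem _ hfm))
  rw [Ideal.mem_comap]
  have hst : ((jl ≫ c).stalkMap z).hom f = (jl.stalkMap z).hom ((c.stalkMap q).hom f) := by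
    rw [Scheme.Hom.stalkMap_comp]; rfl
  rw [hst, ← hf', map_mul, mul_comm ((jl.stalkMap z).hom f')]
  refine Ideal.mul_mem_mul ?_ (Ideal.mem_map_of_mem _ ?_)
  · have hem : e₀ ∈ IsLocalRing.maximalIdeal (W'.presheaf.stalk q) := by
      have hle : (IsLocalRing.maximalIdeal (W.presheaf.stalk (c q))).map (c.stalkMap q).hom ≤
          IsLocalRing.maximalIdeal (W'.presheaf.stalk q) :=
        Ideal.map_le_iff_le_comap.2 fun a ha hu => ha ((isUnit_map_iff (c.stalkMap q).hom a).1 hu)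
      exact hle (hE.ge (Ideal.mem_span_singleton_self e₀))
    exact fun hu => hem ((isUnit_map_iff (jl.stalkMap z).hom e₀).1 hu)
  by_cases hq : q ∈ Set.range jl'
  · obtain ⟨x, hx⟩ := hq
    obtain rfl : x = z' := (jl' ≫ c).isEmbedding.injective (by
      rw [Scheme.Hom.comp_apply, hx, ← hzz, Scheme.Hom.comp_apply])
    exact mem_ker_of_strict jl' c x hz' q hx hz f hf f' e₀ hE hf'
  · rw [(ModelFibre.StalkIdeal.stalkIdeal_eq_top_iff _ _).2 fun h => hq ((mem_support_ker _).1 h)]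
    trivial

theorem genericPoint_notMem_range {n : ℕ} {X : Scheme.{u}} {W : Scheme.{u}} {G : W ⟶ X} (Y : Fin n → Scheme.{u})
    [∀ i, IsIntegral (Y i)] [∀ i, IsNoetherian (Y i)] (hdim : ∀ i, topologicalKrullDim (Y i) = 1)
    (ι : ∀ i, Y i ⟶ X) [∀ i, IsClosedImmersion (ι i)] (hdist : Function.Injective fun i => (ι i).ker)
    (C : ∀ i, Cur G (ι i)) {i k : Fin n} (hik : i ≠ k) :
    haveI := (C i).int
    (C i).j (genericPoint (C i).Z) ∉ Set.range (C k).j := by
  haveI := (C i).int; haveI := (C k).int; haveI := (C i).closed; haveI := (C k).closed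
  rintro ⟨x, hx⟩
  by_cases hxg : x = genericPoint (C k).Z
  · subst hxg
    obtain ⟨hpi, Vi, hnei, hVi⟩ := (C i).pb
    obtain ⟨hpk, Vk, hnek, hVk⟩ := (C k).pb
    have e : ι i (genericPoint (Y i)) = ι k (genericPoint (Y k)) := by
      rw [← (ZMTStein.generic_of_isIso_restrict _ Vi hnei hVi).1,
        ← (ZMTStein.generic_of_isIso_restrict _ Vk hnek hVk).1, ← Scheme.Hom.comp_apply,
        ← Scheme.Hom.comp_apply, ← (C i).comm, ← (C k).comm, Scheme.Hom.comp_apply, Scheme.Hom.comp_apply, hx]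
    refine hik (hdist ?_)
    show (ι i).ker = (ι k).ker
    rw [Groth.Agent.H75.RedKer.ker_eq_vanishingIdeal, Groth.Agent.H75.RedKer.ker_eq_vanishingIdeal]
    congr 1
    ext1
    have hgen : ∀ l, closure (Set.range (ι l)) = closure {ι l (genericPoint (Y l))} := fun l => by
      refine Set.Subset.antisymm (closure_minimal ?_ isClosed_closure)
        (closure_mono (Set.singleton_subset_iff.2 ⟨_, rfl⟩))
      rintro _ ⟨y, rfl⟩
      exact specializes_iff_mem_closure.1 (((genericPoint_spec (Y l)).specializes trivial).map (ι l).continuous)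
    show closure (Set.range (ι i)) = closure (Set.range (ι k))
    rw [hgen, hgen, e]
  · obtain ⟨hpk, -⟩ := id (C k).pb
    obtain ⟨hpi, -⟩ := id (C i).pb
    haveI := hpk
    haveI : IsLocallyNoetherian (C k).Z := LocallyOfFiniteType.isLocallyNoetherian (C k).g
    have hc := CDivInt.isClosed_singleton_of_ne_genericPoint ((C k).pb.dim (hdim k)).le hxg
    have h1 : IsClosed ({(C i).j (genericPoint (C i).Z)} : Set W) := by
      rw [← hx, ← Set.image_singleton]; exact (C k).j.isClosedEmbedding.isClosedMap _ hc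
    refine genericPoint_not_isClosed ((C i).pb.dim (hdim i)) ?_
    rw [← (C i).j.isEmbedding.injective.preimage_image {genericPoint (C i).Z}, Set.image_singleton]
    exact h1.preimage (C i).j.continuous

theorem exists_disjoint [IsNoetherian X] {n : ℕ} (Y : Fin n → Scheme.{u}) [∀ i, IsIntegral (Y i)]
    [∀ i, IsNoetherian (Y i)] (hdim : ∀ i, topologicalKrullDim (Y i) = 1) (ι : ∀ i, Y i ⟶ X)
    [∀ i, IsClosedImmersion (ι i)] (hdist : Function.Injective fun i => (ι i).ker)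
    (hres : ∀ i, ∃ (R : Scheme.{u}) (_ : IsIntegral R) (h : R ⟶ Y i), PB h ∧
      ∀ z : R, IsRegularLocalRing (R.presheaf.stalk z)) :
    ∃ (W : Scheme.{u}) (G : W ⟶ X) (C : ∀ i, Cur G (ι i)), Resolve.IsPtBlowupSeq G ∧
      (∀ i, (C i).Regular) ∧ ∀ i k, i ≠ k → Disjoint (Set.range (C i).j) (Set.range (C k).j) := by
  classical
  obtain ⟨W₀, G₀, hG₀, h₀⟩ := exists_regular_family Y hdim ι hres n
  choose C₀ hC₀ hlt using h₀
  haveI hint : ∀ i, IsIntegral (C₀ i).Z := fun i => (C₀ i).int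
  haveI hZN : ∀ i, IsNoetherian (C₀ i).Z := fun i => by
    obtain ⟨hp, -⟩ := id (C₀ i).pb
    haveI := hp
    exact { toIsLocallyNoetherian := LocallyOfFiniteType.isLocallyNoetherian (C₀ i).g
            toCompactSpace := QuasiCompact.compactSpace_of_compactSpace (C₀ i).g }
  haveI : ∀ p : Fin n × Fin n, WellFoundedGT (C₀ p.1).Z.IdealSheafData := fun p =>
    Groth.Agent.Lib.FinCond.wellFoundedGT_idealSheafData _
  haveI : WellFoundedGT (∀ p : Fin n × Fin n, (C₀ p.1).Z.IdealSheafData) :=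
    ⟨Pi.wellFoundedLT (α := fun p : Fin n × Fin n => ((C₀ p.1).Z.IdealSheafData)ᵒᵈ) |>.wf⟩
  let S : Set (∀ p : Fin n × Fin n, (C₀ p.1).Z.IdealSheafData) :=
    {N | ∃ (W : Scheme.{u}) (G : W ⟶ X) (j : ∀ i, (C₀ i).Z ⟶ W), Resolve.IsPtBlowupSeq G ∧
      (∀ i, IsClosedImmersion (j i)) ∧ (∀ i, j i ≫ G = (C₀ i).g ≫ ι i) ∧
      N = fun p : Fin n × Fin n => (j p.2).ker.comap (j p.1)}
  obtain ⟨N, ⟨W, G, j, hG, hjc, hcomm, rfl⟩, hmax⟩ :=
    (wellFounded_gt (α := ∀ p : Fin n × Fin n, (C₀ p.1).Z.IdealSheafData)).has_min S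
      ⟨_, W₀, G₀, fun i => (C₀ i).j, hG₀, fun i => (C₀ i).closed, fun i => (C₀ i).comm, rfl⟩
  let C : ∀ i, Cur G (ι i) := fun i =>
    ⟨(C₀ i).Z, (C₀ i).int, (C₀ i).g, (C₀ i).pb, j i, hjc i, hcomm i⟩
  have hreg : ∀ i, (C i).Regular := fun i => hlt i i.2
  refine ⟨W, G, C, hG, hreg, fun i k hik => Set.disjoint_left.2 ?_⟩
  rintro w ⟨z, hz⟩ ⟨z', hz'⟩
  haveI := hjc i; haveI := hjc k
  haveI := seq_isProper G hG
  haveI : IsLocallyNoetherian W := LocallyOfFiniteType.isLocallyNoetherian G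
  have hgi := genericPoint_notMem_range Y hdim ι hdist C hik
  have hgk := genericPoint_notMem_range Y hdim ι hdist C (Ne.symm hik)
  have hzg : z ≠ genericPoint (C₀ i).Z := fun e => hgi ⟨z', hz'.trans (e ▸ hz.symm)⟩
  have hzg' : z' ≠ genericPoint (C₀ k).Z := fun e => hgk ⟨z, hz.trans (e ▸ hz'.symm)⟩
  have hzc := CDivInt.isClosed_singleton_of_ne_genericPoint ((C₀ i).pb.dim (hdim i)).le hzg
  have hw : IsClosed ({j i z} : Set W) := by
    rw [← Set.image_singleton]; exact (j i).isClosedEmbedding.isClosedMap _ hzc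
  obtain ⟨W', c, hc⟩ := BlowUpExists.exists_isBlowUp W (Scheme.IdealSheafData.vanishingIdeal ⟨{j i z}, hw⟩)
  choose j' hj'c hj' using fun l => (C l).lift_regular (hdim l) c (j i z) hw hc (hreg l)
  have hle : (fun p : Fin n × Fin n => (j p.2).ker.comap (j p.1)) ≤
      fun p : Fin n × Fin n => (j' p.2).ker.comap (j' p.1) := by
    intro p
    show (j p.2).ker.comap (j p.1) ≤ (j' p.2).ker.comap (j' p.1)
    conv_lhs => rw [show j p.1 = j' p.1 ≫ c from (hj' p.1).symm, Scheme.IdealSheafData.comap_comp]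
    refine Scheme.IdealSheafData.comap_mono _ ?_
    rw [show j p.2 = j' p.2 ≫ c from (hj' p.2).symm, Scheme.Hom.ker_comp]
    exact Scheme.IdealSheafData.comap_map_le _ _
  have heq : (fun p : Fin n × Fin n => (j p.2).ker.comap (j p.1)) =
      fun p : Fin n × Fin n => (j' p.2).ker.comap (j' p.1) :=
    hle.eq_of_not_lt fun hlt' => hmax _ ⟨W', c ≫ G, j', .step c G _ hw hc hG, hj'c,
      fun l => by rw [← Category.assoc, hj' l]; exact hcomm l, rfl⟩ hlt'
  haveI := hj'c k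
  have hkey := stalkIdeal_le_mul (j i) (j k) (j' i) (j' k) c (hj' i) (hj' k) z z' (hz.trans hz'.symm) hw hzg' hc
  rw [← show (j k).ker.comap (j i) = (j' k).ker.comap (j' i) from congrFun heq (i, k)] at hkey
  have hbot := Submodule.eq_bot_of_le_smul_of_le_jacobson_bot _ _ (IsNoetherian.noetherian _)
    (le_of_le_of_eq hkey (Ideal.smul_eq_mul _ _).symm) (IsLocalRing.maximalIdeal_le_jacobson _)
  have hs := (genericPoint_spec (C₀ i).Z).specializes (Set.mem_univ z)
  have h1 := ModelFibre.StalkIdeal.map_stalkSpecializes ((j k).ker.comap (j i)) hs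
  rw [hbot, Ideal.map_bot, (ModelFibre.StalkIdeal.stalkIdeal_eq_top_iff _ _).2 fun hm => by
    rw [Scheme.IdealSheafData.support_comap] at hm
    exact hgi ((mem_support_ker _).1 hm)] at h1
  exact bot_ne_top h1

end Groth.Agent.H81.CurveRes
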